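import Groth.Agent.GITQuot.Successive
import Groth.Agent.GrpSchLib.Action

/-!
# Finite geometric stabilisers make the orbit map quasi-finite
-/

set_option autoImplicit false
set_option backward.isDefEq.respectTransparency false
set_option backward.isDefEq.respectTransparency.types false
set_option linter.style.haveILetI false

universe u

open CategoryTheory Limits MonoidalCategory CartesianMonoidalCategory MonObj AlgebraicGeometry

noncomputable section

namespace Groth.Agent.GITProper

variable {S : Scheme.{u}} {G X : Over S} [GrpObj G] (a : AlgGrp.Action G X)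

/-- All stabilisers of geometric points are finite. -/
def FiniteStab : Prop :=
  ∀ (Ω : Type u) [Field Ω] [IsAlgClosed Ω] (T : Over S) (_ : T.left ≅ Spec (CommRingCat.of Ω)) (f : T ⟶ X),
    IsFinite (GLinSh.stabTo a f)

theorem locallyQuasiFinite_psi [IsAffineHom G.hom] [LocallyOfFiniteType G.hom]
    [LocallyOfFiniteType (GIT.psi a (𝟙 X)).left] [IsAffineHom (GIT.psi a (𝟙 X)).left]
    (hfin : FiniteStab a) : LocallyQuasiFinite (GIT.psi a (𝟙 X)).left := by
  refine LocallyQuasiFinite.of_finite_preimage_singleton _ fun z => ?_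
  let Ω := AlgebraicClosure ((X ⊗ X).left.residueField z)
  let pt : Spec (CommRingCat.of Ω) ⟶ (X ⊗ X).left :=
    Spec.map (CommRingCat.ofHom (algebraMap ((X ⊗ X).left.residueField z) Ω)) ≫ (X ⊗ X).left.fromSpecResidueField z
  have hpt : ∀ o, pt.base o = z := fun o => by
    rw [Scheme.Hom.comp_apply]
    exact Scheme.fromSpecResidueField_apply z _
  let T : Over S := Over.mk (pt ≫ (X ⊗ X).hom)
  let b : T ⟶ X ⊗ X := Over.homMk pt rfl
  let π : pullback (GIT.psi a (𝟙 X)).left pt ⟶ Spec (CommRingCat.of Ω) := pullback.snd _ _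
  haveI : LocallyOfFiniteType π := inferInstanceAs (LocallyOfFiniteType (pullback.snd _ _))
  haveI : IsAffineHom π := MorphismProperty.pullback_snd (P := @IsAffineHom) _ _ inferInstance
  have hU : Finite {u : T ⟶ G ⊗ X // u ≫ GIT.psi a (𝟙 X) = b} := by
    rcases isEmpty_or_nonempty {u : T ⟶ G ⊗ X // u ≫ GIT.psi a (𝟙 X) = b} with h | ⟨⟨u₀, hu₀⟩⟩
    · infer_instance
    let x : T ⟶ X := b ≫ snd X X
    haveI := (GITQuot.Successive.isFinite_stabTo_iff a (T := T) (Iso.refl _) x).1 (hfin Ω T (Iso.refl _) x)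
    have key : ∀ u : T ⟶ G ⊗ X, u ≫ GIT.psi a (𝟙 X) = b →
        u ≫ snd G X = x ∧ lift (u ≫ fst G X) x ≫ a.act = b ≫ fst X X := by
      intro u hu
      have h1 : u ≫ snd G X = x := by
        show _ = b ≫ snd X X
        rw [← hu, Category.assoc, GIT.psi, lift_snd]
      refine ⟨h1, ?_⟩
      rw [← h1, ← hu, Category.assoc, GIT.psi, lift_fst, MonoidalCategory.whiskerLeft_id, Category.id_comp,
        lift_comp_fst_snd]
    refine Finite.of_injective (fun u => (⟨(u₀ ≫ fst G X)⁻¹ * (u.1 ≫ fst G X), ?_⟩ :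
      {g : T ⟶ G // lift g x ≫ a.act = x})) fun u v huv => ?_
    · rw [← GrpSchLib.act_mul, (key u.1 u.2).2, ← (key u₀ hu₀).2, GrpSchLib.act_mul, inv_mul_cancel,
        GrpSchLib.act_one]
    · refine Subtype.ext (CartesianMonoidalCategory.hom_ext _ _ ?_ ?_)
      · exact mul_left_cancel (congrArg Subtype.val huv)
      · rw [(key u.1 u.2).1, (key v.1 v.2).1]
  haveI : IsFinite π := by
    rw [GITQuot.Successive.isFinite_iff_finite_points (Iso.refl _) π]
    let m : {s : Spec (CommRingCat.of Ω) ⟶ pullback (GIT.psi a (𝟙 X)).left pt // s ≫ π = 𝟙 _} →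
        {u : T ⟶ G ⊗ X // u ≫ GIT.psi a (𝟙 X) = b} := fun s =>
      have e : (s.1 ≫ pullback.fst _ _) ≫ (GIT.psi a (𝟙 X)).left = pt := by
        rw [Category.assoc, pullback.condition, ← Category.assoc,
          show s.1 ≫ pullback.snd _ _ = 𝟙 _ from s.2, Category.id_comp]
      ⟨Over.homMk (s.1 ≫ pullback.fst _ _) (by
        rw [← Over.w (GIT.psi a (𝟙 X)), ← Category.assoc, e]; rfl), Over.OverMorphism.ext e⟩
    refine Finite.of_injective m fun s t hst => Subtype.ext (pullback.hom_ext ?_ ?_)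
    · exact congrArg (fun u : {u : T ⟶ G ⊗ X // u ≫ GIT.psi a (𝟙 X) = b} => u.1.left) hst
    · exact s.2.trans t.2.symm
  have hfinite : (Set.univ : Set (pullback (GIT.psi a (𝟙 X)).left pt : Scheme.{u})).Finite :=
    (locallyQuasiFinite_iff_finite_preimage_singleton.1 (inferInstance : LocallyQuasiFinite π)
      (IsLocalRing.closedPoint Ω)).subset fun w _ => Subsingleton.elim (α := Spec (CommRingCat.of Ω)) _ _
  refine (hfinite.image (pullback.fst (GIT.psi a (𝟙 X)).left pt).base).subset ?_
  intro w hw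
  obtain ⟨p, hp, -⟩ := Scheme.Pullback.exists_preimage_pullback (f := (GIT.psi a (𝟙 X)).left) (g := pt) w
    (IsLocalRing.closedPoint Ω) ((Set.mem_singleton_iff.1 hw).trans (hpt _).symm)
  exact ⟨p, trivial, hp⟩

end Groth.Agent.GITProper
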