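import Groth.Agent.GITProper.Core
import Groth.Agent.GITProper.QuasiFinite
import Groth.Agent.GITAff.Coact
import Groth.Agent.S11435

/-!
# A closed action with finite stabilisers on an affine scheme has finite orbit map
-/

set_option autoImplicit false
set_option backward.isDefEq.respectTransparency false
set_option backward.isDefEq.respectTransparency.types false
set_option linter.style.haveILetI false

universe u

open CategoryTheory Limits MonoidalCategory CartesianMonoidalCategory MonObj AlgebraicGeometry TensorProduct WithConv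

noncomputable section

namespace Groth.Agent.GITProper

open GrpSchLib GrpSchLib.Kunneth GrpSchLib.AffineHopf GrpSchLib.LineVec GITAff

variable {k : Type u} [Field k]

theorem finite_ev_iff {X Y : Over (Spec (CommRingCat.of k))} [IsAffine X.left] [IsAffine Y.left] (f : X ⟶ Y) :
    IsFinite f.left ↔ (ev f).toRingHom.Finite := by
  rw [HasAffineProperty.iff_of_isAffine (P := @IsFinite)]
  exact ⟨fun h => h.2, fun h => ⟨inferInstance, h⟩⟩

variable {A : Type u} [CommRing A] [HopfAlgebra k A] {X : Over (Spec (CommRingCat.of k))} [IsAffine X.left]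
  (a : AlgGrp.Action (sp k A) X)

theorem lcoact_coassoc :
    (Algebra.TensorProduct.map (AlgHom.id k A) (lcoactHom a)).comp (lcoactHom a) = mu.comp (lcoactHom a) := by
  refine AlgHom.ext fun c => ?_
  have h := LinearMap.congr_fun (lcomod a).coassoc c
  have e1 : ∀ z : A ⊗[k] Fn X, (lcoactHom a).toLinearMap.lTensor A z =
      Algebra.TensorProduct.map (AlgHom.id k A) (lcoactHom a) z := fun z => by
    induction z using TensorProduct.induction_on with
    | zero => simp only [map_zero]
    | tmul p y => simp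
    | add u v hu hv => simp only [map_add, hu, hv]
  have e2 : ∀ z : A ⊗[k] Fn X, TensorProduct.assoc k A A (Fn X)
      ((CoalgebraStruct.comul (R := k) (A := A)).rTensor (Fn X) z) = mu z := fun z => by
    induction z using TensorProduct.induction_on with
    | zero => simp only [map_zero]
    | tmul p y => rfl
    | add u v hu hv => simp only [map_add, hu, hv]
  show Algebra.TensorProduct.map (AlgHom.id k A) (lcoactHom a) (lcoactHom a c) = mu (lcoactHom a c)
  rw [← e1, ← e2]
  exact h

omit a in
theorem ev_whiskerLeft_tpEquiv {T : Over (Spec (CommRingCat.of k))} [IsAffine T.left] (f : T ⟶ X)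
    (z : A ⊗[k] Fn X) :
    ev (sp k A ◁ f) (tpEquiv X z) = tpEquiv T (Algebra.TensorProduct.map (AlgHom.id k A) (ev f) z) := by
  induction z using TensorProduct.induction_on with
  | zero => simp only [map_zero]
  | tmul p y =>
    rw [Algebra.TensorProduct.map_tmul, tpEquiv_tmul, tpEquiv_tmul, map_mul, ev_ev, whiskerLeft_snd, ← ev_ev]
    congr 1
    show ev _ (ev _ (toFn (k := k) p)) = fn _ p
    rw [ev_ev, whiskerLeft_fst]
    rfl
  | add u v hu hv => simp only [map_add, hu, hv]

theorem ev_psi (z : Fn X ⊗[k] Fn X) :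
    ev (GIT.psi a (𝟙 X)) (toProd X X z) = tpEquiv X (Psi (lcoactHom a) z) := by
  induction z using TensorProduct.induction_on with
  | zero => simp only [map_zero]
  | tmul r s =>
    rw [Psi_tmul, map_mul, tpEquiv_lcoactHom, tpEquiv_tmul, map_one, _root_.one_mul,
      show toProd X X (r ⊗ₜ[k] s) = ev (fst X X) r * ev (snd X X) s from Algebra.TensorProduct.lift_tmul _ _ _ _ _,
      map_mul, ev_ev, ev_ev, GIT.psi, lift_fst, lift_snd, MonoidalCategory.whiskerLeft_id, Category.id_comp]
  | add u v hu hv => simp only [map_add, hu, hv]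

omit a in
theorem exists_pt (x : Fn X →ₐ[k] k) :
    ∃ p : 𝟙_ (Over (Spec (CommRingCat.of k))) ⟶ X, ∀ s, ev p s = algebraMap k (Fn (𝟙_ _)) (x s) := by
  have hstr : CommRingCat.ofHom (str X) ≫ CommRingCat.ofHom x.toRingHom = 𝟙 _ :=
    CommRingCat.hom_ext (RingHom.ext fun c => x.commutes c)
  refine ⟨Over.homMk (Spec.map (CommRingCat.ofHom x.toRingHom) ≫ X.left.isoSpec.inv) ?_, fun s => ?_⟩
  · show (Spec.map _ ≫ X.left.isoSpec.inv) ≫ X.hom = 𝟙 _
    have hX : X.hom = X.left.isoSpec.hom ≫ Spec.map (CommRingCat.ofHom (str X)) := (Over.w (aff X)).symm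
    conv_lhs => rw [hX]
    rw [Category.assoc, Iso.inv_hom_id_assoc, ← Spec.map_comp, hstr, Spec.map_id]
  · show (Spec.map (CommRingCat.ofHom x.toRingHom) ≫ X.left.isoSpec.inv).appTop s =
      Scheme.Hom.appTop (𝟙 (Spec (CommRingCat.of k))) ((Scheme.ΓSpecIso (CommRingCat.of k)).inv (x s))
    have hi : X.left.isoSpec.inv.appTop = (Scheme.ΓSpecIso Γ(X.left, ⊤)).inv := by
      have h := congrArg Scheme.Hom.appTop (Scheme.isoSpec_inv_toSpecΓ X.left)
      rw [Scheme.Hom.comp_appTop, Scheme.toSpecΓ_appTop, Scheme.Hom.id_appTop] at h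
      rw [← cancel_epi (Scheme.ΓSpecIso Γ(X.left, ⊤)).hom, Iso.hom_inv_id]
      exact h
    rw [Scheme.Hom.comp_appTop, hi, ← Scheme.ΓSpecIso_inv_naturality]
    rfl

variable [IsAlgClosed k] [Algebra.FiniteType k A]

theorem integral_orbit [LocallyOfFiniteType X.hom] (hcl : GIT.IsClosedAction a) (hfin : FiniteStab a)
    (x : Fn X →ₐ[k] k) : ((evPt x).comp (lcoactHom a)).toRingHom.IsIntegral := by
  obtain ⟨p, hp⟩ := exists_pt x
  let U := 𝟙_ (Over (Spec (CommRingCat.of k)))
  haveI : IsAffine U.left := inferInstanceAs (IsAffine (Spec (CommRingCat.of k)))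
  haveI : LocallyOfFiniteType (sp k A).hom :=
    (HasRingHomProperty.Spec_iff (P := @LocallyOfFiniteType)).mpr (RingHom.finiteType_algebraMap.mpr ‹_›)
  haveI : IsAffineHom X.hom := isAffineHom_of_isAffine _
  haveI : IsAffineHom (sp k A).hom := isAffineHom_of_isAffine _
  haveI : IsAffine (sp k A ⊗ U).left := isAffine_tensor _ _
  haveI : IsAffine (X ⊗ U).left := isAffine_tensor _ _
  have hproper : IsProper (GIT.psi a p).left := by
    refine (S11435.result k (sp k A) X a p).2 ⟨hcl k U (Iso.refl _) p, ?_⟩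
    haveI := hfin k U (Iso.refl _) p
    haveI : IsIso U.hom := inferInstanceAs (IsIso (𝟙 _))
    exact inferInstanceAs (IsProper (GLinSh.stabTo a p ≫ U.hom))
  haveI := hproper
  haveI : IsFinite (GIT.psi a p).left := IsFinite.iff_isProper_and_isAffineHom.2 ⟨hproper, inferInstance⟩
  haveI : IsIso (fst X U).left := by
    haveI : IsIso U.hom := inferInstanceAs (IsIso (𝟙 _))
    exact inferInstanceAs (IsIso (pullback.fst X.hom U.hom))
  haveI : IsFinite (GIT.psi a p ≫ fst X U).left := by rw [Over.comp_left]; infer_instance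
  have hfin' := (finite_ev_iff _).1 (inferInstance : IsFinite (GIT.psi a p ≫ fst X U).left)
  have key : ∀ r, ev (GIT.psi a p ≫ fst X U) r =
      tpEquiv U (Algebra.TensorProduct.map (AlgHom.id k A) (ev p) (lcoactHom a r)) := fun r => by
    rw [GIT.psi, lift_fst, ← ev_ev, ← tpEquiv_lcoactHom, ev_whiskerLeft_tpEquiv]
  let F : Fn X →ₐ[k] A ⊗[k] Fn U := (Algebra.TensorProduct.map (AlgHom.id k A) (ev p)).comp (lcoactHom a)
  have hF : F.toRingHom.IsIntegral := by
    have e : F.toRingHom = (tpEquiv (A := A) U).symm.toRingEquiv.toRingHom.comp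
        (ev (GIT.psi a p ≫ fst X U)).toRingHom := RingHom.ext fun r => by
      show F r = (tpEquiv U).symm (ev (GIT.psi a p ≫ fst X U) r)
      rw [key, AlgEquiv.symm_apply_apply]
      rfl
    rw [e]
    exact RingHom.IsIntegral.trans _ _ hfin'.to_isIntegral
      (RingHom.isIntegral_of_surjective _ (tpEquiv (A := A) U).symm.surjective)
  have hbij : Function.Bijective (Algebra.ofId k (Fn U)) :=
    by
    haveI : IsIso U.hom := inferInstanceAs (IsIso (𝟙 _))
    exact ConcreteCategory.bijective_of_isIso ((Scheme.ΓSpecIso (CommRingCat.of k)).inv ≫ U.hom.appTop)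
  let s : Fn U →ₐ[k] k := (AlgEquiv.ofBijective _ hbij).symm.toAlgHom
  let L : A ⊗[k] Fn U →ₐ[k] A := Algebra.TensorProduct.lift (AlgHom.id k A) ((Algebra.ofId k A).comp s)
    fun _ _ => .all _ _
  have hL : ∀ z : A ⊗[k] Fn X, L (Algebra.TensorProduct.map (AlgHom.id k A) (ev p) z) = evPt x z := fun z => by
    induction z using TensorProduct.induction_on with
    | zero => simp only [map_zero]
    | tmul q y =>
      show q * algebraMap k A (s (ev p y)) = q * algebraMap k A (x y)
      rw [hp, show s (algebraMap k (Fn U) (x y)) = x y from s.commutes _]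
    | add u v hu hv => simp only [map_add, hu, hv]
  rw [show ((evPt x).comp (lcoactHom a)).toRingHom = L.toRingHom.comp F.toRingHom from
    RingHom.ext fun r => (hL _).symm]
  exact RingHom.IsIntegral.trans _ _ hF (RingHom.isIntegral_of_surjective _ fun q =>
    ⟨q ⊗ₜ 1, by simp [L]⟩)

variable [CharZero k] [LocallyOfFiniteType X.hom] {β : A →ₗ[k] k}

/-- The affine case. -/
theorem isFinite_psi_sp (hβ : ComodLib.IsIntegral k β) (hβ1 : β 1 = 1) (hcl : GIT.IsClosedAction a)
    (hfin : FiniteStab a) : IsFinite (GIT.psi a (𝟙 X)).left := by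
  haveI : LocallyOfFiniteType (sp k A).hom :=
    (HasRingHomProperty.Spec_iff (P := @LocallyOfFiniteType)).mpr (RingHom.finiteType_algebraMap.mpr ‹_›)
  haveI : IsAffineHom (sp k A).hom := isAffineHom_of_isAffine _
  haveI : IsAffine (sp k A ⊗ X).left := isAffine_tensor _ _
  haveI : IsAffine (X ⊗ X).left := isAffine_tensor _ _
  haveI : LocallyOfFiniteType (GIT.psi a (𝟙 X)).left := by
    haveI : LocallyOfFiniteType ((GIT.psi a (𝟙 X)).left ≫ (snd X X).left) := by
      rw [← Over.comp_left, GIT.psi, lift_snd]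
      exact inferInstanceAs (LocallyOfFiniteType (pullback.snd (sp k A).hom X.hom))
    exact locallyOfFiniteType_of_comp _ (snd X X).left
  haveI : Algebra.FiniteType k (Fn X) := by
    have h := (HasRingHomProperty.iff_of_isAffine (P := @LocallyOfFiniteType) (f := X.hom)).1 inferInstance
    rw [← RingHom.finiteType_algebraMap]
    exact RingHom.FiniteType.comp (g := X.hom.appTop.hom) (f := (Scheme.ΓSpecIso (CommRingCat.of k)).inv.hom) h
      (RingHom.FiniteType.of_surjective _ (ConcreteCategory.bijective_of_isIso (Scheme.ΓSpecIso (CommRingCat.of k)).inv).2)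
  let P : Fn X ⊗[k] Fn X ≃+* Fn (X ⊗ X) := RingEquiv.ofBijective (toProd X X) (toProd_bijective X X)
  let Q := (tpEquiv (A := A) X).toRingEquiv
  have e1 : (Psi (lcoactHom a)).toRingHom =
      Q.symm.toRingHom.comp ((ev (GIT.psi a (𝟙 X))).toRingHom.comp P.toRingHom) := RingHom.ext fun z => by
    show _ = (tpEquiv X).symm (ev _ (toProd X X z))
    rw [ev_psi, AlgEquiv.symm_apply_apply]
    rfl
  have e2 : (ev (GIT.psi a (𝟙 X))).toRingHom =
      Q.toRingHom.comp ((Psi (lcoactHom a)).toRingHom.comp P.symm.toRingHom) := RingHom.ext fun z => by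
    rw [e1]
    simp [RingHom.comp_apply]
  rw [finite_ev_iff, e2]
  have hfinP := finite_Psi (lcoactHom a) (lcoact_coassoc a) hβ hβ1 (integral_orbit a hcl hfin) (by
    rw [e1]
    have hq := (HasRingHomProperty.iff_of_isAffine (P := @LocallyQuasiFinite)).1 (locallyQuasiFinite_psi a hfin)
    exact RingHom.QuasiFinite.comp (.of_finite (RingHom.Finite.of_surjective Q.symm.toRingHom Q.symm.surjective))
      (RingHom.QuasiFinite.comp hq (.of_finite (RingHom.Finite.of_surjective P.toRingHom P.surjective))))
  exact (RingHom.Finite.of_surjective Q.toRingHom Q.surjective).comp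
    (hfinP.comp (RingHom.Finite.of_surjective P.symm.toRingHom P.symm.surjective))

end Groth.Agent.GITProper
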