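import Groth.Agent.HMCrit.Closed
import Groth.Agent.ComodLib.Integral
import Mathlib.RingTheory.ZariskisMainTheorem
import Mathlib.RingTheory.RingHom.QuasiFinite
import Mathlib.RingTheory.RingHom.FiniteType

/-!
# An action with finite stabilisers and finite orbit maps is proper: the algebraic core

`B = A ⊗ R` is quasi-finite over `R ⊗ R`. The elements `c` of the integral closure `C` with `C_c = B_c` form an ideal
which is stable under translations by the group; averaging one which is `1` on an orbit shows that it is everything.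
-/

set_option autoImplicit false
set_option backward.isDefEq.respectTransparency false
set_option backward.isDefEq.respectTransparency.types false
set_option linter.style.haveILetI false

universe u

open TensorProduct WithConv

noncomputable section

namespace Groth.Agent.GITProper

section Ideal

variable (D B : Type u) [CommRing D] [CommRing B] [Algebra D B]

/-- The elements `c` of the integral closure with `C_c = B_c`. -/
def goodIdeal : Ideal (integralClosure D B) where
  carrier := {c | ∀ b : B, ∃ n : ℕ, IsIntegral D ((c : B) ^ n * b)}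
  zero_mem' b := ⟨1, by simpa using isIntegral_zero⟩
  add_mem' := by
    intro c d hc hd b
    obtain ⟨n₁, h₁⟩ := hc b
    obtain ⟨n₂, h₂⟩ := hd b
    refine ⟨n₁ + n₂, ?_⟩
    rw [Subalgebra.coe_add, add_pow, Finset.sum_mul]
    refine IsIntegral.sum _ fun i hi => ?_
    have hm : IsIntegral D ((Nat.choose (n₁ + n₂) i : ℕ) : B) := by
      rw [← map_natCast (algebraMap D B)]; exact isIntegral_algebraMap
    rcases le_or_gt n₁ i with h | h
    · obtain ⟨j, rfl⟩ := Nat.exists_eq_add_of_le h
      have := (h₁.mul ((c.2.pow j).mul (d.2.pow (n₁ + n₂ - (n₁ + j))))).mul hm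
      convert this using 1
      ring
    · obtain ⟨j, hj⟩ := Nat.exists_eq_add_of_le (show n₂ ≤ n₁ + n₂ - i by omega)
      have := (h₂.mul ((c.2.pow i).mul (d.2.pow j))).mul hm
      convert this using 1
      rw [hj]
      ring
  smul_mem' := by
    intro r c hc b
    obtain ⟨n, hn⟩ := hc b
    refine ⟨n, ?_⟩
    rw [smul_eq_mul, Subalgebra.coe_mul, mul_pow, mul_assoc]
    exact (r.2.pow n).mul hn

theorem map_goodIdeal [Algebra.FiniteType D B] [Algebra.QuasiFinite D B] :
    (goodIdeal D B).map (algebraMap (integralClosure D B) B) = ⊤ := by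
  by_contra h
  obtain ⟨q, hq, hle⟩ := Ideal.exists_le_maximal _ h
  haveI := hq.isPrime
  obtain ⟨r, hrq, hr, hx⟩ := (Algebra.zariskisMainProperty_iff (p := q)).1
    (Algebra.ZariskisMainProperty.of_finiteType (R := D) q)
  exact hrq (hle (Ideal.mem_map_of_mem _ (show (⟨r, hr⟩ : integralClosure D B) ∈ goodIdeal D B from hx)))

end Ideal

variable {k : Type u} [Field k] {A : Type u} [CommRing A] [HopfAlgebra k A]
  {R : Type u} [CommRing R] [Algebra k R] (Δ : R →ₐ[k] A ⊗[k] R)

/-- The orbit map `(g, x) ↦ (g x, x)`. -/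
def Psi : R ⊗[k] R →ₐ[k] A ⊗[k] R :=
  Algebra.TensorProduct.lift Δ Algebra.TensorProduct.includeRight fun _ _ => .all _ _

theorem Psi_tmul (r s : R) : Psi Δ (r ⊗ₜ s) = Δ r * (1 ⊗ₜ s) := rfl

/-- Evaluation at a point. -/
def evPt (x : R →ₐ[k] k) : A ⊗[k] R →ₐ[k] A :=
  Algebra.TensorProduct.lift (AlgHom.id k A) ((Algebra.ofId k A).comp x) fun _ _ => .all _ _

theorem evPt_tmul (x : R →ₐ[k] k) (p : A) (s : R) : evPt x (p ⊗ₜ s) = x s • p := by
  show p * algebraMap k A (x s) = _
  rw [Algebra.smul_def, mul_comm]

/-- Translation by a point. -/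
def transA (g : A →ₐ[k] k) : A →ₐ[k] A :=
  (Algebra.TensorProduct.lid k A).toAlgHom.comp
    ((Algebra.TensorProduct.map g (AlgHom.id k A)).comp (Bialgebra.comulAlgHom k A))

theorem apply_transA (g φ : A →ₐ[k] k) (p : A) :
    φ (transA g p) = (toConv g * toConv φ) p := by
  rw [AlgHom.convMul_apply]
  show φ ((Algebra.TensorProduct.lid k A) (Algebra.TensorProduct.map g (AlgHom.id k A) (Coalgebra.comul (R := k) p))) = _
  induction Coalgebra.comul (R := k) p using TensorProduct.induction_on with
  | zero => simp only [map_zero]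
  | tmul q r => simp [Algebra.TensorProduct.lift_tmul]
  | add u v hu hv => simp only [map_add, hu, hv]

theorem transA_surjective [IsAlgClosed k] [CharZero k] [Algebra.FiniteType k A] (g : A →ₐ[k] k) :
    Function.Surjective (transA g) := by
  refine fun p => ⟨transA (toConv g)⁻¹.ofConv p, HMCrit.eq_of_forall_point_A (k := k) fun φ => ?_⟩
  rw [apply_transA, show (toConv g * toConv φ) (transA (toConv g)⁻¹.ofConv p) =
    ((toConv g)⁻¹ * (toConv g * toConv φ)) p from apply_transA _ (toConv g * toConv φ).ofConv p,
    ← mul_assoc, inv_mul_cancel, one_mul]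

/-- Translation on the product. -/
def transB (g : A →ₐ[k] k) : A ⊗[k] R →ₐ[k] A ⊗[k] R := Algebra.TensorProduct.map (transA g) (AlgHom.id k R)

/-- Translation on functions of the space. -/
def transR (g : A →ₐ[k] k) : R →ₐ[k] R :=
  (Algebra.TensorProduct.lid k R).toAlgHom.comp ((Algebra.TensorProduct.map g (AlgHom.id k R)).comp Δ)

/-- The first two factors multiplied. -/
def mu : A ⊗[k] R →ₐ[k] A ⊗[k] (A ⊗[k] R) :=
  (Algebra.TensorProduct.assoc k k k A A R).toAlgHom.comp
    (Algebra.TensorProduct.map (Bialgebra.comulAlgHom k A) (AlgHom.id k R))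

theorem lid_map_mu (g : A →ₐ[k] k) (z : A ⊗[k] R) :
    TensorProduct.lid k (A ⊗[k] R) (g.toLinearMap.rTensor (A ⊗[k] R) (mu z)) = transB g z := by
  induction z using TensorProduct.induction_on with
  | zero => simp only [map_zero]
  | tmul p s =>
    show TensorProduct.lid k _ (g.toLinearMap.rTensor _ ((Algebra.TensorProduct.assoc k k k A A R)
      (Coalgebra.comul (R := k) p ⊗ₜ[k] s))) =
      (Algebra.TensorProduct.lid k A) (Algebra.TensorProduct.map g (AlgHom.id k A) (Coalgebra.comul (R := k) p)) ⊗ₜ s
    induction Coalgebra.comul (R := k) p using TensorProduct.induction_on with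
    | zero => simp only [TensorProduct.zero_tmul, map_zero]
    | tmul q r => simp [TensorProduct.smul_tmul']
    | add u v hu hv => simp only [TensorProduct.add_tmul, map_add, hu, hv]
  | add u v hu hv => simp only [map_add, hu, hv]

variable (hco : (Algebra.TensorProduct.map (AlgHom.id k A) Δ).comp Δ = mu.comp Δ)

include hco in
theorem transB_coact (g : A →ₐ[k] k) (r : R) : transB g (Δ r) = Δ (transR Δ g r) := by
  rw [← lid_map_mu, show mu (Δ r) = Algebra.TensorProduct.map (AlgHom.id k A) Δ (Δ r) from (AlgHom.congr_fun hco r).symm]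
  show _ = Δ ((Algebra.TensorProduct.lid k R) (Algebra.TensorProduct.map g (AlgHom.id k R) (Δ r)))
  induction Δ r using TensorProduct.induction_on with
  | zero => simp only [map_zero]
  | tmul p s => simp
  | add u v hu hv => simp only [map_add, hu, hv]

include hco in
theorem transB_Psi (g : A →ₐ[k] k) (z : R ⊗[k] R) :
    transB g (Psi Δ z) = Psi Δ (Algebra.TensorProduct.map (transR Δ g) (AlgHom.id k R) z) := by
  induction z using TensorProduct.induction_on with
  | zero => simp only [map_zero]
  | tmul r s =>
    rw [Algebra.TensorProduct.map_tmul, Psi_tmul, Psi_tmul, map_mul, transB_coact Δ hco g]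
    simp [transB]
  | add u v hu hv => simp only [map_add, hu, hv]

include hco in
/-- The core: finiteness of the orbit map. -/
theorem finite_Psi [IsAlgClosed k] [CharZero k] [Algebra.FiniteType k A] [Algebra.FiniteType k R]
    {β : A →ₗ[k] k} (hβ : ComodLib.IsIntegral k β) (hβ1 : β 1 = 1)
    (horb : ∀ x : R →ₐ[k] k, ((evPt x).comp Δ).toRingHom.IsIntegral)
    (hqf : (Psi Δ).toRingHom.QuasiFinite) : (Psi Δ).toRingHom.Finite := by
  letI alg := (Psi Δ).toRingHom.toAlgebra
  haveI : IsScalarTower k (R ⊗[k] R) (A ⊗[k] R) := .of_algebraMap_eq fun c => ((Psi Δ).commutes c).symm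
  haveI : Algebra.QuasiFinite (R ⊗[k] R) (A ⊗[k] R) := hqf
  haveI : Algebra.FiniteType A (A ⊗[k] R) := inferInstance
  haveI : Algebra.FiniteType k (A ⊗[k] R) := Algebra.FiniteType.trans (S := A) inferInstance inferInstance
  haveI : Algebra.FiniteType R (R ⊗[k] R) := inferInstance
  haveI : Algebra.FiniteType k (R ⊗[k] R) := Algebra.FiniteType.trans (S := R) inferInstance inferInstance
  haveI : Algebra.FiniteType (R ⊗[k] R) (A ⊗[k] R) := Algebra.FiniteType.of_restrictScalars_finiteType k _ _
  let C := integralClosure (R ⊗[k] R) (A ⊗[k] R)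
  let I := goodIdeal (R ⊗[k] R) (A ⊗[k] R)
  have hI : I = ⊤ := by
    by_contra hne
    obtain ⟨m, hm, hIm⟩ := Ideal.exists_le_maximal I hne
    -- the point of the space under a closed point of the boundary
    let m₀ := m.comap (algebraMap (R ⊗[k] R) C)
    haveI : Algebra.IsIntegral (R ⊗[k] R) C := integralClosure.AlgebraIsIntegral
    haveI : m₀.IsMaximal := Ideal.isMaximal_comap_of_isIntegral_of_isMaximal m
    letI := Ideal.Quotient.field m₀
    haveI : Algebra.FiniteType k ((R ⊗[k] R) ⧸ m₀) :=
      Algebra.FiniteType.of_surjective (Ideal.Quotient.mkₐ k m₀) Ideal.Quotient.mk_surjective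
    haveI : Module.Finite k ((R ⊗[k] R) ⧸ m₀) := finite_of_finite_type_of_isJacobsonRing k _
    letI := Ideal.Quotient.field m
    haveI : Algebra.IsIntegral k (C ⧸ m) := by
      letI : Algebra ((R ⊗[k] R) ⧸ m₀) (C ⧸ m) := Ideal.quotientAlgebra
      haveI : IsScalarTower k ((R ⊗[k] R) ⧸ m₀) (C ⧸ m) := .of_algebraMap_eq fun c =>
        congrArg (Ideal.Quotient.mk m) (IsScalarTower.algebraMap_apply k (R ⊗[k] R) C c)
      haveI : Algebra.IsIntegral ((R ⊗[k] R) ⧸ m₀) (C ⧸ m) := Algebra.IsIntegral.quotient
      haveI : Algebra.IsIntegral k ((R ⊗[k] R) ⧸ m₀) := Algebra.IsIntegral.of_finite k _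
      exact Algebra.IsIntegral.trans ((R ⊗[k] R) ⧸ m₀)
    let χ : C →ₐ[k] k :=
      ((AlgEquiv.ofBijective (Algebra.ofId k (C ⧸ m)) IsAlgClosed.algebraMap_bijective_of_isIntegral).symm.toAlgHom).comp
        (Ideal.Quotient.mkₐ k m)
    have hχ : ∀ c ∈ m, χ c = 0 := fun c hc => by
      simp [χ]
      exact Ideal.Quotient.eq_zero_iff_mem.2 hc
    have hs : ∀ s : R, IsIntegral (R ⊗[k] R) ((1 : A) ⊗ₜ[k] s) := fun s => by
      have e : Psi Δ (1 ⊗ₜ s) = (1 : A) ⊗ₜ[k] s := by rw [Psi_tmul, map_one, one_mul]
      rw [← e]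
      exact isIntegral_algebraMap (R := R ⊗[k] R)
    let ι₂ : R →ₐ[k] C := AlgHom.codRestrict Algebra.TensorProduct.includeRight (C.restrictScalars k) hs
    let x : R →ₐ[k] k := χ.comp ι₂
    -- an element of the ideal which is one on the orbit
    let e : C →+* A := (evPt x).toRingHom.comp (algebraMap C (A ⊗[k] R))
    have heI : (I.map e) = ⊤ := by
      rw [← Ideal.map_map, map_goodIdeal, Ideal.map_top]
    have hint : e.IsIntegral := by
      refine RingHom.IsIntegral.tower_top (f := (algebraMap (R ⊗[k] R) C).comp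
        (Algebra.TensorProduct.includeLeft : R →ₐ[k] R ⊗[k] R).toRingHom) e ?_
      convert horb x using 1
      refine RingHom.ext fun r => ?_
      show evPt x (Psi Δ (r ⊗ₜ 1)) = evPt x (Δ r)
      rw [Psi_tmul, ← Algebra.TensorProduct.one_def, mul_one]
    obtain ⟨c, hcI, hc1⟩ : ∃ c ∈ I, e c = 1 := by
      letI := e.rangeRestrict.toAlgebra
      have hJ : I.map e.rangeRestrict = ⊤ := by
        by_contra h
        obtain ⟨n, hn, hIn⟩ := Ideal.exists_le_maximal _ h
        haveI := hn.isPrime
        haveI : Algebra.IsIntegral e.range A := ⟨fun p => by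
          obtain ⟨q, hq, hq'⟩ := hint p
          refine ⟨q.map e.rangeRestrict, hq.map _, ?_⟩
          rw [Polynomial.eval₂_map]
          exact hq'⟩
        obtain ⟨Q, -, hQ, hQc⟩ := Ideal.exists_ideal_over_prime_of_isIntegral
          (R := e.range) (S := A) n ⊥ (by
            intro z hz
            have : (z : A) = 0 := Ideal.mem_bot.1 hz
            rw [show z = 0 from Subtype.ext this]; exact n.zero_mem)
        refine hQ.ne_top ((Ideal.eq_top_iff_one _).2 ?_)
        have h1 : I.map e ≤ Q := by
          rw [Ideal.map_le_iff_le_comap]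
          intro c hc
          have : e.rangeRestrict c ∈ n := hIn (Ideal.mem_map_of_mem _ hc)
          rw [← hQc] at this
          exact this
        exact h1 (heI ▸ trivial)
      obtain ⟨c, hc, hc'⟩ := (Ideal.mem_map_iff_of_surjective _ e.rangeRestrict_surjective).1
        ((Ideal.eq_top_iff_one _).1 hJ)
      exact ⟨c, hc, congrArg Subtype.val hc'⟩
    -- translates and the average
    let V : Submodule k (A ⊗[k] R) := (I.restrictScalars k).map (C.val.toLinearMap.restrictScalars k)
    have hV : ∀ g : A →ₐ[k] k, transB g (c : A ⊗[k] R) ∈ V := fun g => by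
      have hint' : ∀ b : A ⊗[k] R, IsIntegral (R ⊗[k] R) b → IsIntegral (R ⊗[k] R) (transB g b) := by
        rintro b ⟨p, hp, hp'⟩
        refine ⟨p.map (Algebra.TensorProduct.map (transR Δ g) (AlgHom.id k R)).toRingHom, hp.map _, ?_⟩
        have hcomp : (algebraMap (R ⊗[k] R) (A ⊗[k] R)).comp
            (Algebra.TensorProduct.map (transR Δ g) (AlgHom.id k R)).toRingHom =
            (transB g).toRingHom.comp (algebraMap (R ⊗[k] R) (A ⊗[k] R)) :=
          RingHom.ext fun z => (transB_Psi Δ hco g z).symm
        rw [Polynomial.eval₂_map, hcomp]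
        have h := Polynomial.hom_eval₂ p (algebraMap (R ⊗[k] R) (A ⊗[k] R)) (transB g).toRingHom b
        rw [hp', map_zero] at h
        exact h.symm
      refine ⟨⟨transB g c, hint' _ c.2⟩, ?_, rfl⟩
      intro b
      obtain ⟨b', rfl⟩ : ∃ b', transB g b' = b := by
        induction b using TensorProduct.induction_on with
        | zero => exact ⟨0, map_zero _⟩
        | tmul p s =>
          obtain ⟨p', rfl⟩ := transA_surjective g p
          exact ⟨p' ⊗ₜ s, by simp [transB]⟩
        | add u v hu hv =>
          obtain ⟨u', rfl⟩ := hu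
          obtain ⟨v', rfl⟩ := hv
          exact ⟨u' + v', map_add _ _ _⟩
      obtain ⟨n, hn⟩ := hcI b'
      refine ⟨n, ?_⟩
      have := hint' _ hn
      rwa [map_mul, map_pow] at this
    have hav : TensorProduct.lid k (A ⊗[k] R) (β.rTensor (A ⊗[k] R) (mu (c : A ⊗[k] R))) ∈ V := by
      rw [← Submodule.Quotient.mk_eq_zero, ← Module.forall_dual_apply_eq_zero_iff k]
      intro l
      let p : A := TensorProduct.rid k A ((l.comp V.mkQ).lTensor A (mu (c : A ⊗[k] R)))
      have key : ∀ (f : A →ₗ[k] k) (z : A ⊗[k] (A ⊗[k] R)),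
          f (TensorProduct.rid k A ((l.comp V.mkQ).lTensor A z)) =
            l (V.mkQ (TensorProduct.lid k _ (f.rTensor _ z))) := fun f z => by
        induction z using TensorProduct.induction_on with
        | zero => simp only [map_zero]
        | tmul q w => simp [mul_comm]
        | add u v hu hv => simp only [map_add, hu, hv]
      have hp : p = 0 := HMCrit.eq_of_forall_point_A (k := k) fun g => by
        rw [map_zero]
        refine (key g.toLinearMap _).trans ?_
        rw [lid_map_mu, Submodule.mkQ_apply, (Submodule.Quotient.mk_eq_zero V).2 (hV g), map_zero]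
      have := key β (mu (c : A ⊗[k] R))
      rw [show TensorProduct.rid k A ((l.comp V.mkQ).lTensor A (mu (c : A ⊗[k] R))) = 0 from hp, map_zero] at this
      exact this.symm
    have havg : ∀ z : A ⊗[k] R, TensorProduct.lid k (A ⊗[k] R) (β.rTensor (A ⊗[k] R) (mu z)) =
        (1 : A) ⊗ₜ[k] TensorProduct.lid k R (β.rTensor R z) := fun z => by
      induction z using TensorProduct.induction_on with
      | zero => simp only [map_zero, TensorProduct.tmul_zero]
      | tmul p s =>
        have h1 : TensorProduct.lid k (A ⊗[k] R) (β.rTensor (A ⊗[k] R)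
            ((Algebra.TensorProduct.assoc k k k A A R) (Coalgebra.comul (R := k) p ⊗ₜ[k] s))) =
            TensorProduct.lid k A (β.rTensor A (Coalgebra.comul (R := k) p)) ⊗ₜ[k] s := by
          induction Coalgebra.comul (R := k) p using TensorProduct.induction_on with
          | zero => simp only [TensorProduct.zero_tmul, map_zero]
          | tmul q r => simp [TensorProduct.smul_tmul']
          | add u v hu hv => simp only [TensorProduct.add_tmul, map_add, hu, hv]
        refine h1.trans ?_
        rw [hβ p]
        simp [TensorProduct.smul_tmul]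
      | add u v hu hv => simp only [map_add, hu, hv, TensorProduct.tmul_add]
    rw [havg] at hav
    obtain ⟨d, hdI, hd⟩ := hav
    have hx0 : χ d = 0 := hχ d (hIm hdI)
    have hd' : d = ι₂ (TensorProduct.lid k R (β.rTensor R (c : A ⊗[k] R))) := Subtype.ext hd
    have hx1 : x (TensorProduct.lid k R (β.rTensor R (c : A ⊗[k] R))) = β (evPt x (c : A ⊗[k] R)) := by
      induction (c : A ⊗[k] R) using TensorProduct.induction_on with
      | zero => simp only [map_zero]
      | tmul p s => simp [evPt_tmul, mul_comm]
      | add u v hu hv => simp only [map_add, hu, hv]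
    rw [show evPt x (c : A ⊗[k] R) = 1 from hc1, hβ1] at hx1
    rw [hd'] at hx0
    exact one_ne_zero (hx1.symm.trans hx0)
  refine RingHom.IsIntegral.to_finite (fun b => ?_) (RingHom.finiteType_algebraMap.2 ‹_›)
  obtain ⟨n, hn⟩ := (hI ▸ Submodule.mem_top : (1 : C) ∈ I) b
  rwa [Subalgebra.coe_one, one_pow, one_mul] at hn

end Groth.Agent.GITProper
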