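import Groth.Agent.GITProper.PsLocus
import Groth.Agent.AGFLib.GeomBC

/-!
# Properness of an action with a geometric quotient over any field of characteristic zero
-/

set_option autoImplicit false
set_option backward.isDefEq.respectTransparency false
set_option backward.isDefEq.respectTransparency.types false
set_option linter.style.haveILetI false

universe u

open CategoryTheory Limits MonoidalCategory CartesianMonoidalCategory MonObj AlgebraicGeometry

noncomputable section

namespace Groth.Agent.GITProper

open GrpSchLib GrpSchLib.AffineHopf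

section BaseChange

variable {S S' : Scheme.{u}} (σ : S' ⟶ S)

/-- A scheme over the new base seen over the old one. -/
abbrev down (T : Over S') : Over S := Over.mk (T.hom ≫ σ)

/-- A map into a base change seen over the old base. -/
abbrev downHom {Z : Over S} {T : Over S'} (g : T ⟶ Red.bc σ Z) : down σ T ⟶ Z :=
  Over.homMk (g.left ≫ pullback.fst Z.hom σ) (by
    show (g.left ≫ pullback.fst _ _) ≫ Z.hom = T.hom ≫ σ
    rw [Category.assoc, pullback.condition, ← Category.assoc]
    exact congrArg (· ≫ σ) (Over.w g))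

theorem isPullback_down (Z : Over S) (T : Over S') :
    IsPullback ((fst (Red.bc σ Z) T).left ≫ pullback.fst Z.hom σ) (snd (Red.bc σ Z) T).left Z.hom (down σ T).hom :=
  (IsPullback.of_hasPullback (pullback.snd Z.hom σ) T.hom).paste_horiz (IsPullback.of_hasPullback Z.hom σ)

/-- The projection formula. -/
def downIso (Z : Over S) (T : Over S') : (Red.bc σ Z ⊗ T).left ≅ (Z ⊗ down σ T).left :=
  (isPullback_down σ Z T).isoPullback

theorem downIso_fst (Z : Over S) (T : Over S') :
    (downIso σ Z T).hom ≫ (fst Z (down σ T)).left = (fst (Red.bc σ Z) T).left ≫ pullback.fst Z.hom σ :=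
  (isPullback_down σ Z T).isoPullback_hom_fst

theorem downIso_snd (Z : Over S) (T : Over S') :
    (downIso σ Z T).hom ≫ (snd Z (down σ T)).left = (snd (Red.bc σ Z) T).left :=
  (isPullback_down σ Z T).isoPullback_hom_snd

variable {G X : Over S} [GrpObj G] (a : AlgGrp.Action G X)

theorem bcAction_act_fst :
    (AGFLib.GeomBC.bcAction σ a).act.left ≫ pullback.fst X.hom σ =
      (Functor.LaxMonoidal.μ (Over.pullback σ) G X).left ≫ pullback.fst (G ⊗ X).hom σ ≫ a.act.left := by
  simp [AGFLib.GeomBC.bcAction]

theorem downIso_psi {T : Over S'} (f : T ⟶ Red.bc σ X) :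
    (downIso σ G T).hom ≫ (GIT.psi a (downHom σ f)).left =
      (GIT.psi (AGFLib.GeomBC.bcAction σ a) f).left ≫ (downIso σ X T).hom := by
  have h1 : ((Red.bc σ G ◁ f).left ≫ (Functor.LaxMonoidal.μ (Over.pullback σ) G X).left) ≫ pullback.fst (G ⊗ X).hom σ =
      (downIso σ G T).hom ≫ (G ◁ downHom σ f).left := by
    apply pullback.hom_ext
    · simp only [Category.assoc, Over.μ_pullback_left_fst_fst, Over.whiskerLeft_left_fst]
      erw [downIso_fst]
      show (Red.bc σ G ◁ f).left ≫ (fst (Red.bc σ G) (Red.bc σ X)).left ≫ pullback.fst G.hom σ = _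
      rw [← Category.assoc, ← Over.comp_left, whiskerLeft_fst]
    · simp only [Category.assoc, Over.μ_pullback_left_fst_snd, Over.whiskerLeft_left_snd]
      erw [reassoc_of% (downIso_snd σ G T)]
      show (Red.bc σ G ◁ f).left ≫ (snd (Red.bc σ G) (Red.bc σ X)).left ≫ pullback.fst X.hom σ = _
      rw [← Category.assoc, ← Over.comp_left, whiskerLeft_snd, Over.comp_left, Category.assoc]
      rfl
  have hf : (GIT.psi a (downHom σ f)).left ≫ (fst X (down σ T)).left = (G ◁ downHom σ f).left ≫ a.act.left := by
    rw [← Over.comp_left, ← Over.comp_left, GIT.psi, lift_fst]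
  have hs : (GIT.psi a (downHom σ f)).left ≫ (snd X (down σ T)).left = (snd G (down σ T)).left := by
    rw [← Over.comp_left, GIT.psi, lift_snd]
  have hs' : (GIT.psi (AGFLib.GeomBC.bcAction σ a) f).left ≫ (snd (Red.bc σ X) T).left = (snd (Red.bc σ G) T).left := by
    rw [← Over.comp_left, GIT.psi, lift_snd]
  have hf' : (GIT.psi (AGFLib.GeomBC.bcAction σ a) f).left ≫ (fst (Red.bc σ X) T).left =
      (Red.bc σ G ◁ f).left ≫ (AGFLib.GeomBC.bcAction σ a).act.left := by
    rw [← Over.comp_left, ← Over.comp_left, GIT.psi, lift_fst]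
  refine pullback.hom_ext ?_ ?_
  · show _ ≫ (fst X (down σ T)).left = _ ≫ (fst X (down σ T)).left
    rw [Category.assoc, hf, Category.assoc, downIso_fst, reassoc_of% hf', bcAction_act_fst]
    rw [← Category.assoc, ← h1, Category.assoc, Category.assoc]
  · show _ ≫ (snd X (down σ T)).left = _ ≫ (snd X (down σ T)).left
    rw [Category.assoc, hs, Category.assoc, downIso_snd, downIso_snd, hs']

theorem isClosedAction_bc (hcl : GIT.IsClosedAction a) : GIT.IsClosedAction (AGFLib.GeomBC.bcAction σ a) := by
  intro Ω _ _ T e f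
  have h := (hcl Ω (down σ T) e (downHom σ f)).preimage (downIso σ X T).hom.continuous
  convert h using 1
  ext p
  constructor
  · rintro ⟨q, rfl⟩
    refine ⟨(downIso σ G T).hom.base q, ?_⟩
    rw [← Scheme.Hom.comp_apply, downIso_psi, Scheme.Hom.comp_apply]
  · rintro ⟨q, hq⟩
    obtain ⟨q', rfl⟩ := (downIso σ G T).hom.surjective q
    refine ⟨q', (downIso σ X T).hom.homeomorph.injective ?_⟩
    show ((GIT.psi _ f).left ≫ (downIso σ X T).hom).base q' = (downIso σ X T).hom.base p
    rw [← downIso_psi, Scheme.Hom.comp_apply]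
    exact hq

theorem finiteStab_bc [IsAffineHom G.hom] [LocallyOfFiniteType G.hom] (hfin : FiniteStab a) :
    FiniteStab (AGFLib.GeomBC.bcAction σ a) := by
  intro Ω _ _ T e f
  haveI : IsAffineHom (Red.bc σ G).hom := MorphismProperty.pullback_snd (P := @IsAffineHom) _ _ ‹_›
  haveI : LocallyOfFiniteType (Red.bc σ G).hom := inferInstanceAs (LocallyOfFiniteType (pullback.snd G.hom σ))
  rw [GITQuot.Successive.isFinite_stabTo_iff _ e f]
  haveI := (GITQuot.Successive.isFinite_stabTo_iff a (T := down σ T) e (downHom σ f)).1 (hfin Ω (down σ T) e _)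
  refine Finite.of_injective (fun g => (⟨downHom σ g.1, ?_⟩ :
    {g : down σ T ⟶ G // lift g (downHom σ f) ≫ a.act = downHom σ f})) fun g h hgh => ?_
  · refine Over.OverMorphism.ext ?_
    have hg : (lift g.1 f).left ≫ (AGFLib.GeomBC.bcAction σ a).act.left = f.left := by
      rw [← Over.comp_left, g.2]
    have h2 : (lift (downHom σ g.1) (downHom σ f)).left =
        ((lift g.1 f).left ≫ (Functor.LaxMonoidal.μ (Over.pullback σ) G X).left) ≫ pullback.fst (G ⊗ X).hom σ := by
      apply pullback.hom_ext
      · simp only [Category.assoc, Over.μ_pullback_left_fst_fst, Over.lift_left, pullback.lift_fst]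
        erw [pullback.lift_fst_assoc]
        rfl
      · simp only [Category.assoc, Over.μ_pullback_left_fst_snd, Over.lift_left, pullback.lift_snd]
        erw [pullback.lift_snd_assoc]
        rfl
    show (Over.Hom.left (lift (downHom σ g.1) (downHom σ f))) ≫ a.act.left = f.left ≫ pullback.fst X.hom σ
    rw [h2, Category.assoc, Category.assoc, ← bcAction_act_fst, ← Category.assoc, hg]
  · refine Subtype.ext (Over.OverMorphism.ext (pullback.hom_ext ?_ ?_))
    · exact congrArg (fun v : {g : down σ T ⟶ G // lift g (downHom σ f) ≫ a.act = downHom σ f} => v.1.left) hgh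
    · exact (Over.w g.1).trans (Over.w h.1).symm

end BaseChange

variable {k : Type u} [Field k] [CharZero k]

theorem charZero_geomPt (s : (Spec (CommRingCat.of k) : Scheme.{u})) :
    CharZero (AlgebraicClosure ((Spec (CommRingCat.of k)).residueField s)) := by
  obtain ⟨φ, -⟩ := Spec.map_surjective (Red.geomPt s)
  exact charZero_of_injective_ringHom φ.hom.injective

theorem hasIntegral_geomFibre {G : Over (Spec (CommRingCat.of k))} [GrpObj G] (hG : Red.IsReductive G)
    (s : (Spec (CommRingCat.of k) : Scheme.{u})) : HasIntegral (Red.geomFibre s G) := by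
  obtain ⟨A, _, _, e, α, hα, hα1⟩ := hasIntegral_of_isReductive hG
  obtain ⟨alg, ⟨e1⟩⟩ := RedLR.exists_geomFibre_iso A s
  letI := alg
  obtain ⟨β, hβ, hβ1⟩ := ComodLib.exists_integral_baseChange
    (AlgebraicClosure ((Spec (CommRingCat.of k)).residueField s)) hα hα1
  exact ⟨_, inferInstance, inferInstance, e1.symm ≪≫ (Over.pullback (Red.geomPt s)).mapGrp.mapIso e, β, hβ, hβ1⟩

theorem isProper_psi_of_geomQuot {G X Y : Over (Spec (CommRingCat.of k))} [GrpObj G] (hG : Red.IsReductive G)
    [LocallyOfFiniteType X.hom] [IsSeparated X.hom] [IsSeparated Y.hom] {a : AlgGrp.Action G X} {φ : X ⟶ Y}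
    (hinv : GIT.IsInvariant a φ) (hcl : GIT.IsClosedAction a) (hfin : FiniteStab a) [IsAffineHom φ.left] :
    IsProper (GIT.psi a (𝟙 X)).left := by
  haveI := hG.1
  haveI := hG.2.1
  let s : (Spec (CommRingCat.of k) : Scheme.{u}) := IsLocalRing.closedPoint k
  let σ := Red.geomPt s
  haveI := charZero_geomPt (k := k) s
  let X' := Red.bc σ X
  let Y' := Red.bc σ Y
  let a' := AGFLib.GeomBC.bcAction σ a
  let φ' : X' ⟶ Y' := (Over.pullback σ).map φ
  haveI : IsAffineHom φ'.left := MorphismProperty.overPullbackMap (P := @IsAffineHom) _ φ ‹_›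
  haveI : IsSeparated Y'.hom := inferInstanceAs (IsSeparated (pullback.snd Y.hom σ))
  haveI : LocallyOfFiniteType X'.hom := inferInstanceAs (LocallyOfFiniteType (pullback.snd X.hom σ))
  haveI : LocallyOfFiniteType (Red.bc σ G).hom := inferInstanceAs (LocallyOfFiniteType (pullback.snd G.hom σ))
  have hinv' : GIT.IsInvariant a' φ' := by
    show (Functor.LaxMonoidal.μ (Over.pullback σ) G X ≫ (Over.pullback σ).map a.act) ≫ (Over.pullback σ).map φ = _
    rw [Category.assoc, ← Functor.map_comp, hinv, Functor.map_comp, ← Category.assoc, Functor.Monoidal.μ_snd]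
  haveI hfinite := isFinite_psi a' (hasIntegral_geomFibre hG s) hinv' (isClosedAction_bc σ a hcl) (finiteStab_bc σ a hfin)
  -- descent
  let T := down σ X'
  let p : T ⟶ X := downHom σ (𝟙 X')
  haveI : IsFinite (GIT.psi a p).left := by
    rw [show (GIT.psi a p).left = (downIso σ G X').inv ≫ (GIT.psi a' (𝟙 X')).left ≫ (downIso σ X X').hom by
      rw [← downIso_psi, Iso.inv_hom_id_assoc]]
    infer_instance
  have hp : p.left = pullback.fst X.hom σ := Category.id_comp _
  haveI := AGFLib.GeomBC.isIntegralHom_geomPt (k := k) s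
  haveI := AGFLib.GeomBC.surjective_geomPt (k := k) s
  haveI : IsIntegralHom p.left := by rw [hp]; infer_instance
  haveI : Surjective p.left := by rw [hp]; infer_instance
  haveI : IsIntegralHom (X ◁ p).left :=
    MorphismProperty.of_isPullback (P := @IsIntegralHom)
      (GITQuot.isPullback_left (AlgSt.isPullback_whiskerLeft (G := X) p)).flip ‹_›
  haveI : Surjective (G ◁ p).left :=
    MorphismProperty.of_isPullback (P := @Surjective)
      (GITQuot.isPullback_left (GITQuot.isPullback_tensorLeft (G := G) p)).flip ‹_›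
  have hsq : (G ◁ p).left ≫ (GIT.psi a (𝟙 X)).left = (GIT.psi a p).left ≫ (X ◁ p).left := by
    rw [← Over.comp_left, ← Over.comp_left]
    congr 1
    ext <;> simp [GIT.psi]
  haveI : UniversallyClosed ((G ◁ p).left ≫ (GIT.psi a (𝟙 X)).left) := by rw [hsq]; infer_instance
  haveI : UniversallyClosed (GIT.psi a (𝟙 X)).left := UniversallyClosed.of_comp_surjective (G ◁ p).left _
  have hsnd : (GIT.psi a (𝟙 X)).left ≫ (snd X X).left = pullback.snd G.hom X.hom := by
    rw [← Over.comp_left, GIT.psi, lift_snd]; rfl
  haveI : LocallyOfFiniteType (GIT.psi a (𝟙 X)).left := by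
    haveI : LocallyOfFiniteType ((GIT.psi a (𝟙 X)).left ≫ (snd X X).left) := by rw [hsnd]; infer_instance
    exact locallyOfFiniteType_of_comp _ (snd X X).left
  haveI : IsSeparated (GIT.psi a (𝟙 X)).left := by
    haveI : IsSeparated ((GIT.psi a (𝟙 X)).left ≫ (snd X X).left) := by rw [hsnd]; infer_instance
    exact IsSeparated.of_comp _ (snd X X).left
  exact {}

end Groth.Agent.GITProper
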