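import Mathlib.RingTheory.ZariskisMainTheorem
import Mathlib.RingTheory.RingHom.QuasiFinite
import Mathlib.RingTheory.RingHom.FiniteType
import Mathlib.RingTheory.Invariant.Galois
import Mathlib.RingTheory.DedekindDomain.IntegralClosure
import Mathlib.FieldTheory.Normal.Closure
import Mathlib.FieldTheory.Perfect
import Mathlib.RingTheory.Ideal.GoingUp

/-!
# A quasi-finite map becomes a Zariski cover after a finite extension

For a normal domain `R` and a quasi-finite injective `R → S` there is a finite extension `R → R'` such that, near every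
prime over the image of `S`, `R'` maps to a localisation through `S`: the Galois group is transitive on the fibres.
-/

set_option autoImplicit false
set_option backward.isDefEq.respectTransparency false
set_option backward.isDefEq.respectTransparency.types false
set_option linter.style.haveILetI false

universe u

noncomputable section

namespace Groth.Agent.GITProper

theorem exists_galois_cover {R S : Type u} [CommRing R] [IsDomain R] [IsIntegrallyClosed R] [IsNoetherianRing R]
    [CharZero R] [CommRing S] [IsDomain S] (f : R →+* S) (hinj : Function.Injective f) (hft : f.FiniteType)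
    (hqf : f.QuasiFinite) :
    ∃ (R' : Type u) (_ : CommRing R') (g : R →+* R'), g.Finite ∧ Function.Injective g ∧
      ∀ (q' : Ideal R'), q'.IsPrime → (∃ q : Ideal S, q.IsPrime ∧ q.comap f = q'.comap g) →
        ∃ c ∉ q', ∃ ρ : S →+* Localization.Away c, ρ.comp f = (algebraMap R' (Localization.Away c)).comp g := by
  letI := f.toAlgebra
  haveI : Algebra.FiniteType R S := hft
  haveI : Algebra.QuasiFinite R S := hqf
  haveI : FaithfulSMul R S := (faithfulSMul_iff_algebraMap_injective _ _).2 hinj
  let K := FractionRing R
  let F := FractionRing S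
  let C := integralClosure R S
  letI : Algebra K F := FractionRing.liftAlgebra R F
  haveI : CharZero K := charZero_of_injective_algebraMap (IsFractionRing.injective R K)
  -- every element is algebraic
  have halg : ∀ s : S, IsIntegral K (algebraMap S F s) := by
    intro s
    obtain ⟨q, hq⟩ := Ideal.exists_maximal S
    haveI := hq.isPrime
    obtain ⟨c, hcq, hc, hx⟩ := (Algebra.zariskisMainProperty_iff (p := q)).1
      (Algebra.ZariskisMainProperty.of_finiteType (R := R) q)
    obtain ⟨n, hn⟩ := hx s
    have hc0 : c ≠ 0 := fun h => hcq (h ▸ q.zero_mem)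
    have h1 : ∀ {t : S}, IsIntegral R t → IsIntegral K (algebraMap S F t) := fun {t} ht =>
      ((ht.map (IsScalarTower.toAlgHom R S F)).tower_top)
    have h2 : IsIntegral K ((algebraMap S F c) ^ n)⁻¹ := ((h1 hc).pow n).inv
    have : algebraMap S F s = ((algebraMap S F c) ^ n)⁻¹ * algebraMap S F (c ^ n * s) := by
      rw [map_mul, map_pow, inv_mul_cancel_left₀ (pow_ne_zero _ ((map_ne_zero_iff _ (IsFractionRing.injective S F)).2 hc0))]
    rw [this]
    exact h2.mul (h1 hn)
  haveI : FiniteDimensional K F := by
    obtain ⟨t, ht⟩ := (Algebra.FiniteType.out : (⊤ : Subalgebra R S).FG)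
    let M : IntermediateField K F := IntermediateField.adjoin K ((algebraMap S F) '' (t : Set S))
    haveI : FiniteDimensional K M := IntermediateField.finiteDimensional_adjoin (by
      rintro _ ⟨s, -, rfl⟩
      exact halg s)
    have hmem : ∀ s : S, algebraMap S F s ∈ M := fun s => by
      have hle : Algebra.adjoin R (t : Set S) ≤ (M.toSubalgebra.restrictScalars R).comap (IsScalarTower.toAlgHom R S F) :=
        Algebra.adjoin_le fun x hx => IntermediateField.subset_adjoin K _ ⟨x, hx, rfl⟩
      exact hle (ht.symm ▸ Algebra.mem_top)
    have htop : M = ⊤ := by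
      refine IntermediateField.ext fun z => ⟨fun _ => trivial, fun _ => ?_⟩
      obtain ⟨x, y, -, rfl⟩ := IsFractionRing.div_surjective (A := S) z
      exact M.div_mem (hmem x) (hmem y)
    exact ((IntermediateField.equivOfEq htop).trans IntermediateField.topEquiv).toLinearEquiv.finiteDimensional
  let Ω := AlgebraicClosure F
  let L := IntermediateField.normalClosure K F Ω
  haveI : IsGalois K L := ⟨⟩
  let incl : F →ₐ[K] L :=
    (IsScalarTower.toAlgHom K F Ω).codRestrict L.toSubalgebra fun z =>
      (IsScalarTower.toAlgHom K F Ω).fieldRange_le_normalClosure ⟨z, rfl⟩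
  let R' := integralClosure R L
  haveI : IsIntegralClosure R' R L := integralClosure.isIntegralClosure R L
  haveI : Module.Finite R R' := IsIntegralClosure.finite R K L R'
  haveI : IsFractionRing R' L := IsIntegralClosure.isFractionRing_of_finite_extension R K L R'
  haveI : Algebra.IsInvariant R R' (R' ≃ₐ[R] R') := Algebra.isInvariant_of_isGalois' R K L R'
  haveI : Finite (R' ≃ₐ[R] R') := Finite.of_equiv _ (galRestrict R K L R').toEquiv
  let e : C →ₐ[R] R' :=
    (((incl.restrictScalars R).comp (IsScalarTower.toAlgHom R S F)).comp C.val).codRestrict R'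
      fun c => c.2.map ((incl.restrictScalars R).comp (IsScalarTower.toAlgHom R S F))
  have he : Function.Injective e := fun x y hxy => Subtype.ext
    (IsFractionRing.injective S F (incl.toRingHom.injective (congrArg Subtype.val hxy)))
  have hg : Function.Injective (algebraMap R R') := fun x y h =>
    IsFractionRing.injective R K ((algebraMap K L).injective (by
      rw [← IsScalarTower.algebraMap_apply, ← IsScalarTower.algebraMap_apply]
      exact congrArg Subtype.val h))
  refine ⟨R', inferInstance, algebraMap R R', RingHom.finite_algebraMap.2 ‹_›, hg, fun q' hq' hqq => ?_⟩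
  obtain ⟨q, hq, hqq⟩ := hqq
  haveI := hq
  haveI := hq'
  -- a prime of `R'` over the prime of `C`
  let n : Ideal C := q.comap C.val
  letI := e.toRingHom.toAlgebra
  haveI : Algebra.IsIntegral C R' := by
    haveI : IsScalarTower R C R' := .of_algebraMap_eq fun r => (e.commutes r).symm
    exact ⟨fun x => (Algebra.IsIntegral.isIntegral (R := R) x).tower_top⟩
  haveI : n.IsPrime := Ideal.comap_isPrime _ _
  obtain ⟨Q, hQ, hQn⟩ := Ideal.exists_ideal_over_prime_of_isIntegral_of_isDomain (S := R') n (by
    intro x hx
    rw [(he (hx.trans (map_zero e).symm) : x = 0)]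
    exact n.zero_mem)
  haveI := hQ
  obtain ⟨σ, hσ⟩ := Algebra.IsInvariant.exists_smul_of_under_eq R R' (R' ≃ₐ[R] R') Q q' (by
    show Q.comap (algebraMap R R') = q'.comap (algebraMap R R')
    rw [← hqq]
    ext r
    rw [Ideal.mem_comap, Ideal.mem_comap]
    have : algebraMap R C r ∈ Q.comap (algebraMap C R') ↔ algebraMap R C r ∈ n := by rw [hQn]
    refine Iff.trans ?_ (this.trans Iff.rfl)
    show _ ↔ e (algebraMap R C r) ∈ Q
    rw [AlgHom.commutes])
  obtain ⟨c, hcq, hbij⟩ := Algebra.ZariskisMainProperty.of_finiteType (R := R) q
  let e' : C →ₐ[R] R' := σ.toAlgHom.comp e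
  have hc' : e' c ∉ q' := by
    rw [hσ]
    intro hmem
    have : e c ∈ Q := by
      rw [Ideal.pointwise_smul_def, show e' c = σ (e c) from rfl] at hmem
      rcases (Ideal.mem_map_iff_of_surjective _ σ.surjective).1 hmem with ⟨y, hy, hyx⟩
      rwa [← σ.injective hyx]
    exact hcq (show c ∈ n from hQn.le this)
  refine ⟨e' c, hc', (Localization.awayMap e'.toRingHom c).comp
    ((RingEquiv.ofBijective _ hbij).symm.toRingHom.comp (algebraMap S (Localization.Away c.1))), RingHom.ext fun r => ?_⟩
  have h1 : Localization.awayMap C.val.toRingHom c (algebraMap C (Localization.Away c) (algebraMap R C r)) =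
      algebraMap S (Localization.Away c.1) (f r) := IsLocalization.map_eq _ _
  show Localization.awayMap e'.toRingHom c ((RingEquiv.ofBijective _ hbij).symm (algebraMap S _ (f r))) = _
  erw [← h1, ← RingEquiv.ofBijective_apply _ hbij, RingEquiv.symm_apply_apply]
  refine (IsLocalization.map_eq _ _).trans ?_
  show algebraMap R' _ (e' (algebraMap R C r)) = _
  rw [AlgHom.commutes]
  rfl

end Groth.Agent.GITProper
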