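import Groth.Agent.GITProper.PsLocus
import Groth.Agent.S16130
import Groth.Agent.S1618
import Groth.Agent.S0402
import Groth.Agent.AGFLib.GeomBC
import Groth.Agent.VarDim.Top

/-!
# A geometric quotient with finite generic stabiliser has finite stabilisers
-/

set_option autoImplicit false
set_option backward.isDefEq.respectTransparency false
set_option backward.isDefEq.respectTransparency.types false
set_option linter.style.haveILetI false

universe u

open CategoryTheory Limits MonoidalCategory CartesianMonoidalCategory MonObj AlgebraicGeometry TopologicalSpace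

noncomputable section

namespace Groth.Agent.GITProper

theorem le_zero_of_not_one_le {d : WithBot ℕ∞} (h : ¬ 1 ≤ d) : d ≤ 0 := by
  induction d using WithBot.recBotCoe with
  | bot => exact bot_le
  | coe d =>
    have : d < 1 := by exact_mod_cast not_le.1 h
    exact_mod_cast (ENat.lt_one_iff_eq_zero.1 this).le

theorem isFinite_iff_dim_le_zero {F : Scheme.{u}} {K : Type u} [Field K] (p : F ⟶ Spec (CommRingCat.of K))
    [LocallyOfFiniteType p] [IsAffineHom p] : IsFinite p ↔ topologicalKrullDim F ≤ 0 := by
  haveI : IsLocallyNoetherian F := LocallyOfFiniteType.isLocallyNoetherian p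
  haveI : JacobsonSpace F := LocallyOfFiniteType.jacobsonSpace p
  haveI : CompactSpace F := QuasiCompact.compactSpace_of_compactSpace p
  constructor
  · intro hp
    haveI : Finite F := Set.finite_univ_iff.1
      ((locallyQuasiFinite_iff_finite_preimage_singleton.1 (inferInstance : LocallyQuasiFinite p)
        (IsLocalRing.closedPoint K)).subset fun w _ => Subsingleton.elim (α := Spec (CommRingCat.of K)) _ _)
    haveI : DiscreteTopology F := inferInstance
    exact topologicalKrullDim_zero_of_discreteTopology F
  · intro h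
    haveI : IsLocallyArtinian F := IsLocallyArtinian.of_topologicalKrullDim_le_zero h
    haveI : Finite F := finite_of_compact_of_discrete
    haveI : LocallyQuasiFinite p := LocallyQuasiFinite.of_finite_preimage_singleton _ fun _ => Set.toFinite _
    exact IsFinite.of_locallyQuasiFinite _

variable {k : Type u} [Field k] [IsAlgClosed k]

theorem connectedSpace_of_isReductive {G : Over (Spec (CommRingCat.of k))} [GrpObj G] (hG : Red.IsReductive G) :
    ConnectedSpace G.left := by
  let s : (Spec (CommRingCat.of k) : Scheme.{u}) := IsLocalRing.closedPoint k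
  haveI : ConnectedSpace ↥(pullback G.hom (Red.geomPt s)) := (hG.2.2 s).2.2.1
  haveI := AGFLib.GeomBC.surjective_geomPt (k := k) s
  exact (pullback.fst G.hom (Red.geomPt s)).surjective.connectedSpace (pullback.fst G.hom (Red.geomPt s)).continuous

variable [CharZero k] {G X Y : Over (Spec (CommRingCat.of k))} [GrpObj G] {a : AlgGrp.Action G X} {φ : X ⟶ Y}

theorem orbit_eq_fibre (h : GIT.IsGeomQuot a φ) [LocallyOfFiniteType X.hom]
    (p : 𝟙_ (Over (Spec (CommRingCat.of k))) ⟶ X) :
    Set.range (a.orbitMap p).left.base =
      φ.left.base ⁻¹' {φ.left.base (p.left.base (IsLocalRing.closedPoint k))} := by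
  haveI : Subsingleton (𝟙_ (Over (Spec (CommRingCat.of k)))).left :=
    inferInstanceAs (Subsingleton (Spec (CommRingCat.of k)))
  let e : G ⟶ G ⊗ X := lift (𝟙 G) (toUnit G ≫ p)
  have ho : a.orbitMap p = e ≫ a.act := rfl
  apply Set.Subset.antisymm
  · rintro _ ⟨g, rfl⟩
    rw [ho, Set.mem_preimage, Set.mem_singleton_iff, ← Scheme.Hom.comp_apply, ← Over.comp_left, Category.assoc,
      h.inv, ← Category.assoc, lift_snd, Category.assoc, Over.comp_left, Scheme.Hom.comp_apply, Over.comp_left,
      Scheme.Hom.comp_apply]
    exact congrArg (φ.left.base ∘ p.left.base) (Subsingleton.elim _ _)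
  · intro z hz
    obtain ⟨q, hq₁, hq₂⟩ := Scheme.Pullback.exists_preimage_pullback (f := φ.left) (g := φ.left) z
      (p.left.base (IsLocalRing.closedPoint k)) hz
    obtain ⟨r, rfl⟩ := h.orbit q
    rw [← Scheme.Hom.comp_apply, GIT.PsiY, pullback.lift_snd] at hq₂
    rw [← Scheme.Hom.comp_apply, GIT.PsiY, pullback.lift_fst] at hq₁
    obtain ⟨w, hw, -⟩ := Scheme.exists_preimage_of_isPullback
      (GITQuot.isPullback_left (GITQuot.isPullback_tensorLeft (G := G) p)) r (IsLocalRing.closedPoint k) hq₂
    refine ⟨(fst G _).left.base w, ?_⟩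
    rw [ho, ← hq₁, ← hw, ← Scheme.Hom.comp_apply, ← Over.comp_left, ← Scheme.Hom.comp_apply, ← Over.comp_left]
    have e1 : fst G (𝟙_ _) ≫ e = G ◁ p := by
      apply CartesianMonoidalCategory.hom_ext
      · simp [e]
      · simp only [e, Category.assoc, lift_snd, whiskerLeft_snd]
        rw [← Category.assoc]
        congr 1
        exact toUnit_unique _ _
    rw [← Category.assoc, e1]

omit [CharZero k] in
/-- The dimension of an orbit and of the stabiliser. -/
theorem dim_orbit_add [Smooth G.hom] [QuasiCompact G.hom] [IsReduced X.left] [IsSeparated X.hom]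
    [LocallyOfFiniteType X.hom] [QuasiCompact X.hom] (p : 𝟙_ (Over (Spec (CommRingCat.of k))) ⟶ X) :
    topologicalKrullDim ↥G.left =
      topologicalKrullDim ↥(Set.range (a.orbitMap p).left.base) + topologicalKrullDim ↥(GLinSh.stab a p) := by
  rw [S16130.result k G X a p]
  congr 1
  let U := 𝟙_ (Over (Spec (CommRingCat.of k)))
  haveI : IsIso U.hom := inferInstanceAs (IsIso (𝟙 _))
  haveI : IsIso (fst G U).left := inferInstanceAs (IsIso (pullback.fst G.hom U.hom))
  haveI : IsIso (fst X U).left := inferInstanceAs (IsIso (pullback.fst X.hom U.hom))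
  let m : GLinSh.stab a p ⟶ pullback (a.orbitMap p).left p.left :=
    pullback.map (GIT.psi a p).left (lift p (𝟙 U)).left (a.orbitMap p).left p.left (fst G U).left (𝟙 _) (fst X U).left
      (by
        rw [← Over.comp_left, ← Over.comp_left]
        congr 1
        rw [GIT.psi, lift_fst, AlgGrp.Action.orbitMap, ← Category.assoc]
        congr 1
        apply CartesianMonoidalCategory.hom_ext
        · simp [U]
        · simp only [whiskerLeft_snd, Category.assoc, lift_snd]
          rw [← Category.assoc]
          congr 1
          exact toUnit_unique _ _)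
      (by rw [← Over.comp_left, lift_fst, Category.id_comp])
  haveI : IsIso m := inferInstanceAs (IsIso (pullback.map _ _ _ _ _ _ _ _ _))
  exact (Scheme.homeoOfIso (asIso m)).isHomeomorph.topologicalKrullDim_eq.symm

theorem finiteStab_of_geomQuot (hG : Red.IsReductive G) (h : GIT.IsGeomQuot a φ) [IsReduced X.left]
    [IrreducibleSpace X.left] [IsSeparated X.hom] [LocallyOfFiniteType X.hom] [QuasiCompact X.hom]
    [LocallyOfFiniteType Y.hom] {x₁ : X.left} (hx₁ : FinPt a x₁) : FiniteStab a := by
  haveI := GITAff.isAffine_of_isReductive hG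
  haveI := hG.1
  haveI := hG.2.1
  haveI := connectedSpace_of_isReductive hG
  haveI := GrpSchLib.Adjoint.geometricallyIrreducible (G := G)
  haveI : IrreducibleSpace G.left := GeometricallyIrreducible.irreducibleSpace_of_subsingleton G.hom
  haveI : IsAffineHom (GIT.psi a (𝟙 X)).left := by
    haveI : IsAffineHom ((GIT.psi a (𝟙 X)).left ≫ (snd X X).left) := by
      rw [← Over.comp_left, GIT.psi, lift_snd]
      exact MorphismProperty.pullback_snd (P := @IsAffineHom) G.hom X.hom hG.1
    haveI : IsSeparated (snd X X).left := inferInstanceAs (IsSeparated (pullback.snd X.hom X.hom))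
    exact IsAffineHom.of_comp _ (snd X X).left
  haveI : LocallyOfFiniteType (GIT.psi a (𝟙 X)).left := by
    haveI : LocallyOfFiniteType ((GIT.psi a (𝟙 X)).left ≫ (snd X X).left) := by
      rw [← Over.comp_left, GIT.psi, lift_snd]
      exact inferInstanceAs (LocallyOfFiniteType (pullback.snd G.hom X.hom))
    exact locallyOfFiniteType_of_comp _ (snd X X).left
  haveI : LocallyOfFiniteType φ.left := by
    haveI : LocallyOfFiniteType (φ.left ≫ Y.hom) := by rw [Over.w]; infer_instance
    exact locallyOfFiniteType_of_comp _ Y.hom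
  haveI : JacobsonSpace X.left := LocallyOfFiniteType.jacobsonSpace X.hom
  let U := 𝟙_ (Over (Spec (CommRingCat.of k)))
  haveI : Subsingleton U.left := inferInstanceAs (Subsingleton (Spec (CommRingCat.of k)))
  let P : X.left.Opens := ⟨{x | FinPt a x}, isOpen_finPt a⟩
  -- the stabiliser of a rational point
  have hstab : ∀ p : U ⟶ X, FinPt a (p.left.base (IsLocalRing.closedPoint k)) ↔
      topologicalKrullDim ↥(GLinSh.stab a p) ≤ 0 := fun p => by
    have hr : Set.range p.left.base ⊆ {p.left.base (IsLocalRing.closedPoint k)} := by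
      rintro _ ⟨t, rfl⟩
      exact congrArg _ (Subsingleton.elim t _)
    obtain ⟨q, hpb⟩ := exists_isPullback_stab a p
    haveI : LocallyOfFiniteType (GLinSh.stabTo a p) :=
      MorphismProperty.of_isPullback (P := @LocallyOfFiniteType) hpb
        (inferInstanceAs (LocallyOfFiniteType (pullback.snd _ _)))
    haveI : IsAffineHom (GLinSh.stabTo a p) :=
      MorphismProperty.of_isPullback (P := @IsAffineHom) hpb
        (MorphismProperty.pullback_snd (P := @IsAffineHom) _ _ inferInstance)
    haveI : LocallyOfFiniteType (GLinSh.stabTo a p ≫ U.hom) := by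
      haveI : IsIso U.hom := inferInstanceAs (IsIso (𝟙 _))
      infer_instance
    rw [← isFinite_iff_dim_le_zero (K := k) (GLinSh.stabTo a p)]
    exact ⟨fun hp => isFinite_of_finPt a (Ω := k) (Iso.refl _) p (W := P) (fun x hx => hx)
      (hr.trans (Set.singleton_subset_iff.2 hp)),
      fun hf => finPt_of_isFinite a (Ω := k) (Iso.refl _) p ⟨_, rfl⟩ hf⟩
  -- the fibre through a closed point
  have hpt : ∀ x ∈ closedPoints X.left, ∃ p : U ⟶ X, p.left.base (IsLocalRing.closedPoint k) = x := fun x hx => by
    obtain ⟨s, hs⟩ := (pointEquivClosedPoint X.hom).symm ⟨x, hx⟩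
    exact ⟨Over.homMk ((pointEquivClosedPoint X.hom).symm ⟨x, hx⟩).1 ((pointEquivClosedPoint X.hom).symm ⟨x, hx⟩).2,
      congrArg Subtype.val ((pointEquivClosedPoint X.hom).apply_symm_apply ⟨x, hx⟩)⟩
  obtain ⟨d, hd⟩ : ∃ d : ℕ, topologicalKrullDim ↥G.left = ((d : ℕ∞) : WithBot ℕ∞) :=
    ⟨_, VarDim.topologicalKrullDim_eq_deg_genericPoint G.hom⟩
  have hall : ∀ x, x ∈ P := by
    by_contra hne
    push_neg at hne
    obtain ⟨x', hx'⟩ := hne
    obtain ⟨x, hxP, hxc⟩ := nonempty_inter_closedPoints (Z := ((P : Set X.left)ᶜ)) ⟨x', hx'⟩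
      P.isOpen.isClosed_compl.isLocallyClosed
    obtain ⟨p, hp⟩ := hpt x hxc
    obtain ⟨n, hn, hnd⟩ : ∃ n : ℕ, FlatMor.fibreDimAt φ.left x ≤ n ∧ n < d := by
      have h1 : FlatMor.fibreDimAt φ.left x ≤ topologicalKrullDim ↥(Set.range (a.orbitMap p).left.base) := by
        rw [orbit_eq_fibre h p, hp, ← (φ.left.fiberHomeo _).isHomeomorph.topologicalKrullDim_eq]
        exact (iInf_le _ ⟨(⊤ : Opens _), trivial⟩).trans (topologicalKrullDim_subspace_le _ _)
      have h2 := dim_orbit_add (a := a) p
      rw [hd] at h2
      have h3 : ¬ topologicalKrullDim ↥(GLinSh.stab a p) ≤ 0 := fun h' => hxP (hp ▸ (hstab p).2 h')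
      revert h1 h2 h3
      generalize topologicalKrullDim ↥(Set.range (a.orbitMap p).left.base) = o
      generalize topologicalKrullDim ↥(GLinSh.stab a p) = s
      intro h1 h2 h3
      induction o using WithBot.recBotCoe with
      | bot => simp at h2
      | coe o =>
        induction s using WithBot.recBotCoe with
        | bot => exact absurd bot_le h3
        | coe s =>
          induction o using ENat.recTopCoe with
          | top => exact absurd h2 (by norm_cast; simp)
          | coe o =>
            induction s using ENat.recTopCoe with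
            | top => exact absurd h2 (by norm_cast; simp)
            | coe s =>
              norm_cast at h2 h3
              exact ⟨o, h1, by omega⟩
    let N : X.left.Opens := ⟨{z | FlatMor.fibreDimAt φ.left z ≤ n}, S0402.result φ.left n⟩
    obtain ⟨x₂, hx₂⟩ := nonempty_preirreducible_inter N.isOpen P.isOpen ⟨x, hn⟩ ⟨x₁, hx₁⟩
    obtain ⟨x₀, hx₀, hx₀c⟩ := nonempty_inter_closedPoints (Z := ((N : Set X.left) ∩ P)) ⟨x₂, hx₂⟩
      (N.isOpen.inter P.isOpen).isLocallyClosed
    obtain ⟨q, hq⟩ := hpt x₀ hx₀c
    have h2 := dim_orbit_add (a := a) q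
    have h3 : topologicalKrullDim ↥(GLinSh.stab a q) ≤ 0 := (hstab q).1 (hq.symm ▸ hx₀.2)
    have hge : topologicalKrullDim ↥(Set.range (a.orbitMap q).left.base) ≤ FlatMor.fibreDimAt φ.left x₀ := by
      let F := φ.left.fiber (φ.left.base x₀)
      let e := φ.left.fiberHomeo (φ.left.base x₀)
      haveI : IrreducibleSpace F := by
        haveI : Nonempty F := ⟨φ.left.asFiber x₀⟩
        have hirr : IsIrreducible (Set.range (a.orbitMap q).left.base) := by
          rw [← Set.image_univ]
          exact (IrreducibleSpace.isIrreducible_univ _).image _ (a.orbitMap q).left.continuous.continuousOn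
        rw [orbit_eq_fibre h q, hq] at hirr
        haveI := Subtype.irreducibleSpace hirr
        exact e.symm.surjective.irreducibleSpace e.symm.continuous
      letI : F.Over (Spec (CommRingCat.of k)) := ⟨φ.left.fiberι (φ.left.base x₀) ≫ X.hom⟩
      haveI : LocallyOfFiniteType (F ↘ Spec (CommRingCat.of k)) :=
        show LocallyOfFiniteType (φ.left.fiberι (φ.left.base x₀) ≫ X.hom) by
          haveI : LocallyOfFiniteType (φ.left.fiberι (φ.left.base x₀)) := by
            haveI : LocallyOfFiniteType (Y.left.fromSpecResidueField (φ.left.base x₀)) := by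
              haveI : IsClosedImmersion (Y.left.fromSpecResidueField (φ.left.base x₀)) := by
                refine isClosed_singleton_iff_isClosedImmersion.1 ?_
                have hc := (pointEquivClosedPoint Y.hom ⟨(q ≫ φ).left, Over.w (q ≫ φ)⟩).2
                rw [← hq]
                exact hc
              infer_instance
            exact inferInstanceAs (LocallyOfFiniteType (pullback.fst _ _))
          infer_instance
      rw [orbit_eq_fibre h q, hq, ← e.isHomeomorph.topologicalKrullDim_eq]
      exact le_iInf fun V => (S1618.result k F V.1 ⟨_, V.2⟩).ge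
    rw [hd] at h2
    have h4 : ((d : ℕ∞) : WithBot ℕ∞) ≤ (n : WithBot ℕ∞) := by
      rw [h2]
      exact (add_le_add le_rfl h3).trans ((add_zero _).trans_le (hge.trans hx₀.1))
    have : d ≤ n := by exact_mod_cast h4
    omega
  exact fun Ω _ _ T e f => isFinite_of_finPt a e f (W := P) (fun x hx => hx) fun z _ => hall z

end Groth.Agent.GITProper
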