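import Groth.Agent.GITProper.QuotNormal
import Groth.Agent.GITProper.GaloisCover
import Groth.Agent.S4945
import Groth.Agent.S9812
import Groth.Agent.S0021

/-!
# A geometric quotient of a proper action on a normal variety is affine
-/

set_option autoImplicit false
set_option backward.isDefEq.respectTransparency false
set_option backward.isDefEq.respectTransparency.types false
set_option linter.style.haveILetI false

universe u

open CategoryTheory CategoryTheory.Limits MonoidalCategory CartesianMonoidalCategory MonObj AlgebraicGeometry TopologicalSpace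

noncomputable section

namespace Groth.Agent.GITProper

variable {k : Type u} [Field k] {G X Y : Over (Spec (CommRingCat.of k))} [GrpObj G] {a : AlgGrp.Action G X} {φ : X ⟶ Y}

theorem isFinite_PsiY [IsAffine G.left] [IsSeparated X.hom] [IsSeparated Y.hom] (hi : GIT.IsInvariant a φ)
    [hp : IsProper (GIT.psi a (𝟙 X)).left] : IsFinite (GIT.PsiY a φ hi) := by
  haveI : IsAffineHom G.hom := isAffineHom_of_isAffine _
  haveI : IsAffineHom (GIT.psi a (𝟙 X)).left := by
    haveI : IsAffineHom ((GIT.psi a (𝟙 X)).left ≫ (snd X X).left) := by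
      rw [← Over.comp_left, GIT.psi, lift_snd]
      exact MorphismProperty.pullback_snd (P := @IsAffineHom) G.hom X.hom ‹_›
    haveI : IsSeparated (snd X X).left := inferInstanceAs (IsSeparated (pullback.snd X.hom X.hom))
    exact IsAffineHom.of_comp _ (snd X X).left
  haveI : IsFinite (GIT.psi a (𝟙 X)).left := IsFinite.iff_isProper_and_isAffineHom.2 ⟨hp, inferInstance⟩
  let j : pullback φ.left φ.left ⟶ (X ⊗ X).left :=
    pullback.lift (pullback.fst φ.left φ.left) (pullback.snd φ.left φ.left) (by
      rw [← Over.w φ, ← Category.assoc, pullback.condition, Category.assoc])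
  haveI : IsSeparated j := by
    haveI : IsSeparated (j ≫ (snd X X).left) := by
      rw [show j ≫ (snd X X).left = pullback.snd φ.left φ.left from pullback.lift_snd _ _ _]
      haveI : IsSeparated (φ.left ≫ Y.hom) := by rw [Over.w]; infer_instance
      haveI : IsSeparated φ.left := IsSeparated.of_comp φ.left Y.hom
      infer_instance
    exact IsSeparated.of_comp j (snd X X).left
  have e : GIT.PsiY a φ hi ≫ j = (GIT.psi a (𝟙 X)).left := by
    refine pullback.hom_ext ?_ ?_
    · rw [Category.assoc, pullback.lift_fst, GIT.PsiY, pullback.lift_fst]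
      show a.act.left = (GIT.psi a (𝟙 X) ≫ fst X X).left
      rw [GIT.psi, lift_fst, MonoidalCategory.whiskerLeft_id, Category.id_comp]
    · rw [Category.assoc, pullback.lift_snd, GIT.PsiY, pullback.lift_snd]
      show (snd G X).left = (GIT.psi a (𝟙 X) ≫ snd X X).left
      rw [GIT.psi, lift_snd]
  haveI : IsFinite (GIT.PsiY a φ hi ≫ j) := by rw [e]; infer_instance
  exact IsFinite.of_comp _ j

/-- Over an affine scheme with a section, the pullback of the quotient map is affine. -/
theorem isAffine_pullback_of_section [IsAffine G.left] [IsSeparated X.hom] [IsSeparated Y.hom]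
    [IsProper (GIT.psi a (𝟙 X)).left] (h : GIT.IsGeomQuot a φ) [LocallyOfFiniteType φ.left] [QuasiCompact φ.left]
    {D : Scheme.{u}} [IsAffine D] [IsLocallyNoetherian D] (gD : D ⟶ Y.left) (s : D ⟶ X.left) (hs : s ≫ φ.left = gD) :
    IsAffine (pullback φ.left gD) := by
  haveI := isFinite_PsiY (a := a) h.inv
  haveI : Surjective (GIT.PsiY a φ h.inv) := ⟨h.orbit⟩
  let t : pullback φ.left gD ⟶ pullback φ.left φ.left :=
    pullback.lift (pullback.fst φ.left gD) (pullback.snd φ.left gD ≫ s) (by rw [Category.assoc, hs, pullback.condition])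
  have h0 : IsPullback t (pullback.snd φ.left gD) (pullback.snd φ.left φ.left) s := by
    refine IsPullback.of_right ?_ (pullback.lift_snd _ _ _) (IsPullback.of_hasPullback φ.left φ.left)
    rw [show t ≫ pullback.fst φ.left φ.left = pullback.fst φ.left gD from pullback.lift_fst _ _ _, hs]
    exact IsPullback.of_hasPullback φ.left gD
  let Q := pullback (GIT.PsiY a φ h.inv) t
  have h1 := (IsPullback.of_hasPullback (GIT.PsiY a φ h.inv) t).paste_vert h0
  rw [show GIT.PsiY a φ h.inv ≫ pullback.snd φ.left φ.left = (snd G X).left from pullback.lift_snd _ _ _] at h1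
  haveI : IsAffineHom (pullback.snd (GIT.PsiY a φ h.inv) t ≫ pullback.snd φ.left gD) :=
    MorphismProperty.of_isPullback (P := @IsAffineHom) h1
      (MorphismProperty.pullback_snd (P := @IsAffineHom) G.hom X.hom (isAffineHom_of_isAffine _))
  haveI : IsAffine Q := isAffine_of_isAffineHom (pullback.snd (GIT.PsiY a φ h.inv) t ≫ pullback.snd φ.left gD)
  haveI : IsFinite (pullback.snd (GIT.PsiY a φ h.inv) t) := inferInstance
  haveI : Surjective (pullback.snd (GIT.PsiY a φ h.inv) t) := inferInstance
  haveI : IsLocallyNoetherian (pullback φ.left gD) :=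
    LocallyOfFiniteType.isLocallyNoetherian (pullback.snd φ.left gD)
  haveI : CompactSpace (pullback φ.left gD : Scheme.{u}) :=
    QuasiCompact.compactSpace_of_compactSpace (pullback.snd φ.left gD)
  haveI : IsNoetherian (pullback φ.left gD) := {}
  exact S0021.result (pullback.snd (GIT.PsiY a φ h.inv) t)

variable [CharZero k]

theorem isAffineHom_of_proper [IsAffine G.left] [Smooth G.hom] [IsIntegral X.left] [IsSeparated X.hom]
    [LocallyOfFiniteType X.hom] [QuasiCompact X.hom] [IsSeparated Y.hom] [LocallyOfFiniteType Y.hom]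
    (hX : Pi1.IsNormalScheme X.left) [IsProper (GIT.psi a (𝟙 X)).left] (h : GIT.IsGeomQuot a φ) :
    IsAffineHom φ.left := by
  haveI : IsAffineHom G.hom := isAffineHom_of_isAffine _
  haveI := isIntegral_quot h
  have hY := isNormalScheme_quot h hX
  haveI : IsLocallyNoetherian Y.left := LocallyOfFiniteType.isLocallyNoetherian Y.hom
  haveI : IsLocallyNoetherian X.left := LocallyOfFiniteType.isLocallyNoetherian X.hom
  haveI : JacobsonSpace X.left := LocallyOfFiniteType.jacobsonSpace X.hom
  haveI : JacobsonSpace Y.left := LocallyOfFiniteType.jacobsonSpace Y.hom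
  haveI : CompactSpace X.left := QuasiCompact.compactSpace_of_compactSpace X.hom
  haveI : LocallyOfFiniteType φ.left := by
    haveI : LocallyOfFiniteType (φ.left ≫ Y.hom) := by rw [Over.w]; infer_instance
    exact locallyOfFiniteType_of_comp _ Y.hom
  haveI : QuasiCompact φ.left := by
    haveI : QuasiCompact (φ.left ≫ Y.hom) := by rw [Over.w]; infer_instance
    exact QuasiCompact.of_comp φ.left Y.hom
  haveI : UniversallyOpen φ.left := GITQuot.universallyOpen h
  -- it is enough to find an affine neighbourhood of every closed point with affine preimage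
  have key : ∀ y ∈ closedPoints Y.left,
      ∃ D : Y.left.Opens, y ∈ D ∧ IsAffineOpen D ∧ IsAffineOpen (φ.left ⁻¹ᵁ D) := by
    intro y hy
    obtain ⟨x₁, hx₁⟩ := h.surj y
    obtain ⟨x, hxy, hxc⟩ := nonempty_inter_closedPoints (Z := φ.left.base ⁻¹' {y}) ⟨x₁, hx₁⟩
      (hy.preimage φ.left.continuous).isLocallyClosed
    haveI := (hY y).1
    haveI := (hY y).2
    obtain ⟨T, i, -, _, _, ⟨t, ht⟩, _, _, _, _⟩ :=
      ((S4945.result φ.left y (S9812.result _)).out 1 3 rfl rfl).1
        (fun x' _ U hU => φ.left.isOpenMap.image_mem_nhds hU) x hxy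
        (fun x' _ hs => (hs.mem_closed hxc rfl))
    haveI : IsIntegral T := isIntegral_of_irreducibleSpace_of_isReduced T
    have hty : (i ≫ φ.left).base t = y := by rw [Scheme.Hom.comp_apply, ht]; exact hxy
    obtain ⟨V, hV, hyV, -⟩ := exists_isAffineOpen_mem_and_subset (show y ∈ (⊤ : Y.left.Opens) from trivial)
    obtain ⟨O, hO, htO, hOV⟩ := exists_isAffineOpen_mem_and_subset
      (show t ∈ (i ≫ φ.left) ⁻¹ᵁ V by show (i ≫ φ.left).base t ∈ V; rw [hty]; exact hyV)
    have e : O ≤ (i ≫ φ.left) ⁻¹ᵁ V := hOV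
    haveI : Nonempty V := ⟨⟨y, hyV⟩⟩
    haveI : Nonempty O := ⟨⟨t, htO⟩⟩
    let f : Γ(Y.left, V) →+* Γ(T, O) := ((i ≫ φ.left).appLE V O e).hom
    have hinj : Function.Injective f := by
      rw [injective_iff_map_eq_zero]
      intro r hr
      by_contra hr0
      have hne : (Y.left.basicOpen r : Set Y.left).Nonempty := by
        by_contra hemp
        exact hr0 ((basicOpen_eq_bot_iff r).1 (Opens.ext (Set.not_nonempty_iff_eq_empty.1 hemp)))
      have hb : T.basicOpen (f r) = O ⊓ (i ≫ φ.left) ⁻¹ᵁ Y.left.basicOpen r := Scheme.basicOpen_appLE _ _ _ _ _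
      rw [hr, Scheme.basicOpen_zero] at hb
      obtain ⟨w, hwO, hwr⟩ := nonempty_preirreducible_inter O.isOpen ((i ≫ φ.left) ⁻¹ᵁ Y.left.basicOpen r).isOpen
        ⟨t, htO⟩ (by
          obtain ⟨z, hz, hzr⟩ := (i ≫ φ.left).denseRange.inter_open_nonempty _ (Y.left.basicOpen r).isOpen hne |>
            fun ⟨w, hw, z, hz⟩ => ((⟨z, trivial, hz ▸ hw⟩ : ∃ z, True ∧ (i ≫ φ.left).base z ∈ Y.left.basicOpen r))
          exact ⟨z, hzr⟩)
      exact (hb.symm.le ⟨hwO, hwr⟩ : w ∈ (⊥ : T.Opens))
    haveI : CharZero Γ(Y.left, V) := charZero_of_injective_ringHom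
      (RingHom.injective ((Y.hom.appLE ⊤ V le_top).hom.comp (Scheme.ΓSpecIso (CommRingCat.of k)).inv.hom))
    haveI : IsNoetherianRing Γ(Y.left, V) := IsLocallyNoetherian.component_noetherian ⟨V, hV⟩
    haveI : IsIntegrallyClosed Γ(Y.left, V) := (S9821.result Y.left).1 hY V hV
    obtain ⟨R', _, g, hgfin, hginj, hcov⟩ := exists_galois_cover f hinj
      (HasRingHomProperty.appLE (P := @LocallyOfFiniteType) (i ≫ φ.left) inferInstance ⟨V, hV⟩ ⟨O, hO⟩ e)
      (HasRingHomProperty.appLE (P := @LocallyQuasiFinite) (i ≫ φ.left) inferInstance ⟨V, hV⟩ ⟨O, hO⟩ e)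
    let SG : Spec (CommRingCat.of R') ⟶ Spec Γ(Y.left, V) := Spec.map (CommRingCat.ofHom g)
    haveI : IsFinite SG := (IsFinite.SpecMap_iff _).2 hgfin
    haveI : Surjective SG := by
      letI := g.toAlgebra
      haveI : Module.Finite Γ(Y.left, V) R' := hgfin
      exact ⟨fun p => by
        haveI : Algebra.IsIntegral Γ(Y.left, V) R' := Algebra.IsIntegral.of_finite _ _
        obtain ⟨Q, hQ, hQp⟩ := Ideal.exists_ideal_over_prime_of_isIntegral (S := R') p.asIdeal
          (⊥ : Ideal R') (by
            intro r hr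
            rw [Ideal.mem_comap, Ideal.mem_bot] at hr
            rw [hginj (hr.trans (map_zero g).symm)]
            exact p.asIdeal.zero_mem) |> fun ⟨Q, _, hQ, hQp⟩ => (⟨Q, hQ, hQp⟩ : ∃ Q : Ideal R', Q.IsPrime ∧ Q.comap g = p.asIdeal)
        exact ⟨⟨Q, hQ⟩, PrimeSpectrum.ext hQp⟩⟩
    -- the good open of the cover
    let good : Set (Spec (CommRingCat.of R')) :=
      {q' | ∃ c ∉ q'.asIdeal, ∃ ρ : Γ(T, O) →+* Localization.Away c,
        ρ.comp f = (algebraMap R' (Localization.Away c)).comp g}
    have hgood : IsOpen good := isOpen_iff_forall_mem_open.2 fun q' ⟨c, hc, ρ, hρ⟩ =>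
      ⟨(PrimeSpectrum.basicOpen c).1, fun p hp => ⟨c, hp, ρ, hρ⟩, (PrimeSpectrum.basicOpen c).isOpen, hc⟩
    let p₀ := hV.primeIdealOf ⟨y, hyV⟩
    have hp₀ : ∀ q' : Spec (CommRingCat.of R'), SG.base q' = p₀ → q' ∈ good := by
      intro q' hq'
      refine hcov q'.asIdeal q'.isPrime ⟨(hO.primeIdealOf ⟨t, htO⟩).asIdeal, inferInstance, ?_⟩
      have h1 : (Spec.map ((i ≫ φ.left).appLE V O e)).base (hO.primeIdealOf ⟨t, htO⟩) = p₀ := by
        apply hV.fromSpec.isOpenEmbedding.injective
        rw [← Scheme.Hom.comp_apply, IsAffineOpen.SpecMap_appLE_fromSpec _ hV hO, Scheme.Hom.comp_apply,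
          hO.fromSpec_primeIdealOf, hV.fromSpec_primeIdealOf]
        exact hty
      exact congrArg PrimeSpectrum.asIdeal (h1.trans hq'.symm)
    obtain ⟨_, ⟨r, rfl⟩, hpr, hr⟩ := PrimeSpectrum.isTopologicalBasis_basic_opens.exists_subset_of_mem_open
      (show p₀ ∈ (SG.base '' goodᶜ)ᶜ from fun ⟨q', hq', he⟩ => hq' (hp₀ q' he))
      (SG.isClosedMap _ hgood.isClosed_compl).isOpen_compl
    let D₀ : (Spec Γ(Y.left, V)).Opens := PrimeSpectrum.basicOpen r
    have hD₀ : IsAffineOpen D₀ := IsAffineOpen.Spec_basicOpen r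
    have hsub : ∀ q', SG.base q' ∈ D₀ → q' ∈ good := fun q' hq' => by
      by_contra hb
      exact hr hq' ⟨q', hb, rfl⟩
    let jD := D₀.ι ≫ hV.fromSpec
    refine ⟨jD.opensRange, ⟨⟨p₀, hpr⟩, ?_⟩, ?_, ?_⟩
    · show hV.fromSpec.base p₀ = y
      exact hV.fromSpec_primeIdealOf _
    · haveI : IsAffine D₀.toScheme := hD₀
      exact isAffineOpen_opensRange jD
    -- the finite cover
    haveI : IsAffine D₀.toScheme := hD₀
    let W := SG ⁻¹ᵁ D₀
    haveI : IsAffine W.toScheme := hD₀.preimage SG
    let δ := SG ∣_ D₀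
    haveI : IsFinite δ := IsZariskiLocalAtTarget.restrict (P := @IsFinite) ‹_› D₀
    haveI : Surjective δ := IsZariskiLocalAtTarget.restrict (P := @Surjective) ‹_› D₀
    let gD := δ ≫ jD
    haveI : IsNoetherianRing R' := by
      letI := g.toAlgebra
      haveI : Module.Finite Γ(Y.left, V) R' := hgfin
      exact IsNoetherianRing.of_finite Γ(Y.left, V) R'
    haveI : IsLocallyNoetherian W.toScheme := isLocallyNoetherian_of_isOpenImmersion W.ι
    have hsnd : IsAffineHom (pullback.snd φ.left gD) := by
      refine IsZariskiLocalAtTarget.of_forall_exists_morphismRestrict (P := @IsAffineHom) fun w => ?_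
      obtain ⟨c, hc, ρ, hρ⟩ := hsub (W.ι.base w) w.2
      obtain ⟨O', hO', hwO', hO'c⟩ := exists_isAffineOpen_mem_and_subset
        (show w ∈ W.ι ⁻¹ᵁ (PrimeSpectrum.basicOpen c : (Spec (CommRingCat.of R')).Opens) from hc)
      refine ⟨O', hwO', ?_⟩
      haveI : IsAffine O'.toScheme := hO'
      haveI : IsLocallyNoetherian O'.toScheme := isLocallyNoetherian_of_isOpenImmersion O'.ι
      let La : Spec (CommRingCat.of (Localization.Away c)) ⟶ Spec (CommRingCat.of R') :=
        Spec.map (CommRingCat.ofHom (algebraMap R' (Localization.Away c)))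
      haveI : IsOpenImmersion La := IsOpenImmersion.of_isLocalization c
      let l : O'.toScheme ⟶ Spec (CommRingCat.of (Localization.Away c)) :=
        IsOpenImmersion.lift La (O'.ι ≫ W.ι) (by
          rintro _ ⟨z, rfl⟩
          show _ ∈ Set.range (PrimeSpectrum.comap (algebraMap R' (Localization.Away c)))
          rw [PrimeSpectrum.localization_away_comap_range (Localization.Away c) c]
          exact hO'c z.2)
      let s : O'.toScheme ⟶ X.left := l ≫ Spec.map (CommRingCat.ofHom ρ) ≫ hO.fromSpec ≫ i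
      have hρ' : CommRingCat.ofHom f ≫ CommRingCat.ofHom ρ =
          CommRingCat.ofHom g ≫ CommRingCat.ofHom (algebraMap R' (Localization.Away c)) := CommRingCat.hom_ext hρ
      have hs : s ≫ φ.left = O'.ι ≫ gD := by
        simp only [s, Category.assoc]
        rw [← IsAffineOpen.SpecMap_appLE_fromSpec (i ≫ φ.left) hV hO e]
        show l ≫ Spec.map (CommRingCat.ofHom ρ) ≫ Spec.map (CommRingCat.ofHom f) ≫ hV.fromSpec = _
        rw [← Spec.map_comp_assoc, hρ', Spec.map_comp_assoc]
        simp only [l, La]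
        rw [IsOpenImmersion.lift_fac_assoc]
        simp only [gD, δ, jD, Category.assoc, morphismRestrict_ι_assoc]
        rfl
      haveI := isAffine_pullback_of_section (a := a) h (O'.ι ≫ gD) s hs
      haveI : IsAffineHom (pullback.snd φ.left (O'.ι ≫ gD)) := isAffineHom_of_isAffine _
      have h1 := (isPullback_morphismRestrict (pullback.snd φ.left gD) O').flip.paste_horiz
        (IsPullback.of_hasPullback φ.left gD)
      have h2 := IsPullback.of_hasPullback φ.left (O'.ι ≫ gD)
      rw [← h1.isoIsPullback_hom_snd _ _ h2]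
      infer_instance
    haveI := hsnd
    haveI : IsAffine (pullback φ.left gD) := isAffine_of_isAffineHom (pullback.snd φ.left gD)
    let P₀ := pullback φ.left jD
    let m : pullback φ.left gD ⟶ P₀ :=
      pullback.lift (pullback.fst _ _) (pullback.snd _ _ ≫ δ) (by rw [Category.assoc, pullback.condition])
    have hm : IsPullback m (pullback.snd φ.left gD) (pullback.snd φ.left jD) δ := by
      refine IsPullback.of_right ?_ (pullback.lift_snd _ _ _) (IsPullback.of_hasPullback φ.left jD)
      rw [show m ≫ pullback.fst φ.left jD = pullback.fst φ.left gD from pullback.lift_fst _ _ _]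
      exact IsPullback.of_hasPullback φ.left gD
    haveI : IsFinite m := MorphismProperty.of_isPullback (P := @IsFinite) hm.flip ‹_›
    haveI : Surjective m := MorphismProperty.of_isPullback (P := @Surjective) hm.flip ‹_›
    haveI : IsLocallyNoetherian P₀ := LocallyOfFiniteType.isLocallyNoetherian (pullback.snd φ.left jD)
    haveI : CompactSpace P₀ := QuasiCompact.compactSpace_of_compactSpace (pullback.snd φ.left jD)
    haveI : IsNoetherian P₀ := {}
    haveI : IsAffine P₀ := S0021.result m
    have := isAffineOpen_opensRange (pullback.fst φ.left jD)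
    rwa [show (pullback.fst φ.left jD).opensRange = φ.left ⁻¹ᵁ jD.opensRange from
      Opens.ext (Scheme.Pullback.range_fst (f := φ.left) (g := jD))] at this
  choose D hDy hDa hDp using key
  refine isAffineHom_of_forall_exists_isAffineOpen φ.left fun y => ?_
  by_contra hne
  push_neg at hne
  let E : Y.left.Opens := ⨆ y : closedPoints Y.left, D y.1 y.2
  have hE : E = ⊤ := by
    by_contra hE
    obtain ⟨z, hzE, hzc⟩ := nonempty_inter_closedPoints (Z := ((E : Set Y.left)ᶜ))
      (Set.nonempty_compl.2 fun h => hE (Opens.ext h)) E.isOpen.isClosed_compl.isLocallyClosed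
    exact hzE (Opens.mem_iSup.2 ⟨⟨z, hzc⟩, hDy z hzc⟩)
  obtain ⟨⟨z, hz⟩, hyz⟩ := Opens.mem_iSup.1 (show y ∈ E by rw [hE]; trivial)
  exact hne (D z hz) hyz (hDa z hz) (hDp z hz)

end Groth.Agent.GITProper
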