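import Groth.Agent.GITProper.Generic
import Groth.Agent.GITProper.QuasiSection
import Groth.Agent.AmpleX.Separated
import Groth.Agent.GrpSchLib.SmoothRegular
import Groth.Agent.CurveCohLib.SmoothCurve
import Groth.Agent.S9829

/-!
# Affine geometric quotients and proper actions, with finite generic stabiliser
-/

set_option autoImplicit false
set_option backward.isDefEq.respectTransparency false
set_option backward.isDefEq.respectTransparency.types false
set_option linter.style.haveILetI false

universe u

open CategoryTheory Limits MonoidalCategory CartesianMonoidalCategory MonObj AlgebraicGeometry TopologicalSpace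

noncomputable section

namespace Groth.Agent.GITProper

open GITSS

theorem isSeparated_of_isProper_psi {S : Scheme.{u}} {G X : Over S} [GrpObj G] [IsSeparated G.hom]
    {a : AlgGrp.Action G X} [IsProper (GIT.psi a (𝟙 X)).left] : IsSeparated X.hom := by
  let e : X ⟶ G ⊗ X := lift 1 (𝟙 X)
  haveI : IsClosedImmersion e.left := by
    haveI : IsClosedImmersion (e.left ≫ (snd G X).left) := by
      rw [← Over.comp_left, lift_snd]
      exact inferInstanceAs (IsClosedImmersion (𝟙 X.left))
    haveI : IsSeparated (snd G X).left := MorphismProperty.pullback_snd (P := @IsSeparated) G.hom X.hom ‹_›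
    exact IsClosedImmersion.of_comp e.left (snd G X).left
  have h : (e ≫ GIT.psi a (𝟙 X)).left = pullback.diagonal X.hom := by
    apply pullback.hom_ext
    · show ((e ≫ GIT.psi a (𝟙 X)) ≫ fst X X).left = _
      rw [Category.assoc, GIT.psi, lift_fst, MonoidalCategory.whiskerLeft_id, Category.id_comp,
        GrpSchLib.act_one, pullback.diagonal_fst]
      rfl
    · show ((e ≫ GIT.psi a (𝟙 X)) ≫ snd X X).left = _
      rw [Category.assoc, GIT.psi, lift_snd, lift_snd, pullback.diagonal_snd]
      rfl
  haveI : IsProper (e.left ≫ (GIT.psi a (𝟙 X)).left) := inferInstance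
  rw [← Over.comp_left, h] at this
  exact ⟨IsClosedImmersion.of_isPreimmersion _ (pullback.diagonal X.hom).isClosedMap.isClosed_range⟩

variable {k : Type u} [Field k] {G X : Over (Spec (CommRingCat.of k))} [GrpObj G] {a : AlgGrp.Action G X}

theorem finPt_restrict {xg : X.left}
    (hσ : topologicalKrullDim (GLinSh.stab a (Over.homMk (X.left.fromSpecResidueField xg) rfl :
      Over.mk (X.left.fromSpecResidueField xg ≫ X.hom) ⟶ X)) = 0)
    {U : X.left.Opens} (hx : xg ∈ U) (aU : AlgGrp.Action G (opS U))
    (haU : aU.act ≫ iS U = (G ◁ iS U) ≫ a.act) [IsAffineHom (GIT.psi aU (𝟙 (opS U))).left]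
    [LocallyOfFiniteType (GIT.psi aU (𝟙 (opS U))).left] : FinPt aU ⟨xg, hx⟩ := by
  let T : Over (Spec (CommRingCat.of k)) := Over.mk (X.left.fromSpecResidueField xg ≫ X.hom)
  let r : T ⟶ X := Over.homMk (X.left.fromSpecResidueField xg) rfl
  have hr : Set.range r.left.base ⊆ Set.range U.ι.base := by
    rw [Scheme.Opens.range_ι]
    show Set.range (X.left.fromSpecResidueField xg).base ⊆ _
    rw [Scheme.range_fromSpecResidueField]
    exact Set.singleton_subset_iff.2 hx
  let r' : T ⟶ opS U := Over.homMk (IsOpenImmersion.lift U.ι r.left hr) (by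
    show _ ≫ U.ι ≫ X.hom = _
    rw [IsOpenImmersion.lift_fac_assoc, Over.w r])
  have e : r' ≫ iS U = r := Over.OverMorphism.ext (IsOpenImmersion.lift_fac _ _ _)
  let m := iS U ▷ T
  have h1 : (GIT.psi aU r').left ≫ m.left = (GIT.psi a r).left := by
    rw [← Over.comp_left]
    congr 1
    apply CartesianMonoidalCategory.hom_ext
    · simp only [m, GIT.psi, Category.assoc, whiskerRight_fst, lift_fst, lift_fst_assoc]
      rw [haU, ← Category.assoc, ← MonoidalCategory.whiskerLeft_comp, e]
    · simp [m, GIT.psi]
  have h2 : (lift r' (𝟙 T)).left ≫ m.left = (lift r (𝟙 T)).left := by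
    rw [← Over.comp_left, lift_whiskerRight, e]
  haveI : IsOpenImmersion m.left :=
    MorphismProperty.of_isPullback (P := @IsOpenImmersion)
      ((GITQuot.isPullback_left (GITAff.isPullback_fst_whiskerRight (iS U) T)))
      (inferInstanceAs (IsOpenImmersion U.ι))
  let u : GLinSh.stab a r ⟶ GLinSh.stab aU r' :=
    pullback.lift (pullback.fst _ _) (pullback.snd _ _) (by
      rw [← cancel_mono m.left, Category.assoc, Category.assoc, h1, h2, pullback.condition])
  let v : GLinSh.stab aU r' ⟶ GLinSh.stab a r :=
    pullback.lift (pullback.fst _ _) (pullback.snd _ _) (by rw [← h1, ← h2, pullback.condition_assoc])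
  let i : GLinSh.stab a r ≅ GLinSh.stab aU r' :=
    ⟨u, v, pullback.hom_ext (by simp [u, v]) (by simp [u, v]), pullback.hom_ext (by simp [u, v]) (by simp [u, v])⟩
  have hdim : topologicalKrullDim (GLinSh.stab aU r') ≤ 0 := by
    rw [← (Scheme.homeoOfIso i).isHomeomorph.topologicalKrullDim_eq]
    exact hσ.le
  obtain ⟨q, hpb⟩ := exists_isPullback_stab aU r'
  haveI : LocallyOfFiniteType (GLinSh.stabTo aU r') :=
    MorphismProperty.of_isPullback (P := @LocallyOfFiniteType) hpb
      (inferInstanceAs (LocallyOfFiniteType (pullback.snd _ _)))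
  haveI : IsAffineHom (GLinSh.stabTo aU r') :=
    MorphismProperty.of_isPullback (P := @IsAffineHom) hpb
      (MorphismProperty.pullback_snd (P := @IsAffineHom) _ _ inferInstance)
  refine finPt_of_isFinite aU (Ω := X.left.residueField xg) (Iso.refl _) r' ?_
    ((isFinite_iff_dim_le_zero (K := X.left.residueField xg) (GLinSh.stabTo aU r')).2 hdim)
  refine ⟨IsLocalRing.closedPoint _, U.ι.isOpenEmbedding.injective ?_⟩
  show (r' ≫ iS U).left.base _ = xg
  rw [e]
  exact Scheme.fromSpecResidueField_apply xg _

theorem exists_affine_geomQuot_iff [IsAlgClosed k] [CharZero k] (hG : Red.IsReductive G)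
    [LocallyOfFiniteType X.hom] [QuasiCompact X.hom] [Smooth X.hom] [ConnectedSpace X.left]
    {xg : X.left} (hxg : closure ({xg} : Set X.left) = Set.univ)
    (hσ : topologicalKrullDim (GLinSh.stab a (Over.homMk (X.left.fromSpecResidueField xg) rfl :
      Over.mk (X.left.fromSpecResidueField xg ≫ X.hom) ⟶ X)) = 0)
    {U : X.left.Opens} (aU : AlgGrp.Action G (opS U)) (haU : aU.act ≫ iS U = (G ◁ iS U) ≫ a.act) :
    (∃ (Y : Over (Spec (CommRingCat.of k))) (φ : opS U ⟶ Y),
        GIT.IsGeomQuot aU φ ∧ IsAffineHom φ.left ∧ LocallyOfFiniteType Y.hom ∧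
        ∃ M : Y.left.Modules, CohB1.IsAmple M) ↔
      IsProper (GIT.psi aU (𝟙 (opS U))).left ∧
        ∃ (Y : Over (Spec (CommRingCat.of k))) (φ : opS U ⟶ Y),
          GIT.IsGeomQuot aU φ ∧ LocallyOfFiniteType Y.hom ∧ ∃ M : Y.left.Modules, CohB1.IsAmple M := by
  haveI := GITAff.isAffine_of_isReductive hG
  haveI := hG.1
  haveI := hG.2.1
  haveI : CompactSpace X.left := QuasiCompact.compactSpace_of_compactSpace X.hom
  haveI : IsIntegral X.left := CurveCohLib.isIntegral_of_smooth_connected X.hom
  haveI : IsLocallyNoetherian X.left := LocallyOfFiniteType.isLocallyNoetherian X.hom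
  haveI : IsNoetherian X.left := {}
  haveI : LocallyOfFiniteType (opS U).hom := inferInstanceAs (LocallyOfFiniteType (U.ι ≫ X.hom))
  haveI : CompactSpace (opS U).left := isCompact_iff_compactSpace.1 (NoetherianSpace.isCompact (U : Set X.left))
  haveI : QuasiCompact (opS U).hom := by rw [quasiCompact_iff_compactSpace]; infer_instance
  constructor
  · rintro ⟨Y, φ, h, hφa, hYft, M, hM⟩
    haveI := hφa
    haveI := AmpleX.isSeparated_of_isAmple hM
    haveI : IsSeparated Y.hom := inferInstance
    haveI : IsSeparated (opS U).hom := by rw [← Over.w φ]; infer_instance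
    refine ⟨?_, Y, φ, h, hYft, M, hM⟩
    have hfin : FiniteStab aU := by
      rcases isEmpty_or_nonempty U with hemp | ⟨⟨x₀, hx₀⟩⟩
      · intro Ω _ _ T e f
        exact (hemp.false (f.left.base (e.inv.base (IsLocalRing.closedPoint Ω)))).elim
      have hxU : xg ∈ U := by
        obtain ⟨z, hz, hz'⟩ := mem_closure_iff.1 (hxg.ge (Set.mem_univ x₀)) U U.isOpen hx₀
        rwa [Set.mem_singleton_iff.1 hz'] at hz
      haveI : IsIntegral U.toScheme :=
        haveI : Nonempty U.toScheme := ⟨⟨xg, hxU⟩⟩
        isIntegral_of_isOpenImmersion U.ι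
      haveI : IrreducibleSpace (opS U).left := inferInstanceAs (IrreducibleSpace U.toScheme)
      haveI : IsReduced (opS U).left := inferInstanceAs (IsReduced U.toScheme)
      haveI : IsAffineHom (GIT.psi aU (𝟙 (opS U))).left := by
        haveI : IsAffineHom ((GIT.psi aU (𝟙 (opS U))).left ≫ (snd (opS U) (opS U)).left) := by
          rw [← Over.comp_left, GIT.psi, lift_snd]
          exact MorphismProperty.pullback_snd (P := @IsAffineHom) G.hom (opS U).hom hG.1
        haveI : IsSeparated (snd (opS U) (opS U)).left :=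
          inferInstanceAs (IsSeparated (pullback.snd (opS U).hom (opS U).hom))
        exact IsAffineHom.of_comp _ (snd (opS U) (opS U)).left
      haveI : LocallyOfFiniteType (GIT.psi aU (𝟙 (opS U))).left := by
        haveI : LocallyOfFiniteType ((GIT.psi aU (𝟙 (opS U))).left ≫ (snd (opS U) (opS U)).left) := by
          rw [← Over.comp_left, GIT.psi, lift_snd]
          exact inferInstanceAs (LocallyOfFiniteType (pullback.snd G.hom (opS U).hom))
        exact locallyOfFiniteType_of_comp _ (snd (opS U) (opS U)).left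
      haveI := hYft
      exact finiteStab_of_geomQuot hG h (finPt_restrict hσ hxU aU haU)
    haveI := isFinite_psi aU (hasIntegral_of_isReductive hG) h.inv (GITQuot.isClosedAction h) hfin
    infer_instance
  · rintro ⟨hp, Y, φ, h, hYft, M, hM⟩
    haveI := hp
    haveI := AmpleX.isSeparated_of_isAmple hM
    haveI : IsSeparated Y.hom := inferInstance
    haveI : IsSeparated (opS U).hom := isSeparated_of_isProper_psi (a := aU)
    refine ⟨Y, φ, h, ?_, hYft, M, hM⟩
    rcases isEmpty_or_nonempty U with hemp | ⟨⟨x₀, hx₀⟩⟩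
    · haveI : IsEmpty (opS U).left := hemp
      infer_instance
    haveI : IsIntegral (opS U).left :=
      haveI : Nonempty U.toScheme := ⟨⟨x₀, hx₀⟩⟩
      haveI : Nonempty (opS U).left := ⟨⟨x₀, hx₀⟩⟩
      isIntegral_of_isOpenImmersion U.ι
    refine isAffineHom_of_proper (fun z => ⟨inferInstance, ?_⟩) h
    haveI : Smooth (U.ι ≫ X.hom) := inferInstance
    have hreg := GrpSchLib.isRegularLocalRing_stalk_of_smooth (U.ι ≫ X.hom) z
    exact @S9829.result _ _ hreg

end Groth.Agent.GITProper
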