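import Groth.Agent.GITProper.Affine
import Groth.Agent.GITSS.StableQuot

/-!
# A closed action with finite stabilisers and an affine invariant map to a separated scheme is proper
-/

set_option autoImplicit false
set_option backward.isDefEq.respectTransparency false
set_option backward.isDefEq.respectTransparency.types false
set_option linter.style.haveILetI false

universe u

open CategoryTheory Limits MonoidalCategory CartesianMonoidalCategory MonObj AlgebraicGeometry TopologicalSpace

noncomputable section

namespace Groth.Agent.GITProper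

open GrpSchLib GrpSchLib.Kunneth GrpSchLib.AffineHopf GITSS

variable {k : Type u} [Field k]

/-- The group has a normalised integral. -/
def HasIntegral (G : Over (Spec (CommRingCat.of k))) [GrpObj G] : Prop :=
  ∃ (A : Type u) (_ : CommRing A) (_ : HopfAlgebra k A) (_ : Grp.mk (sp k A) ≅ Grp.mk G) (α : A →ₗ[k] k),
    ComodLib.IsIntegral k α ∧ α 1 = 1

variable [IsAlgClosed k] [CharZero k] {G X Y : Over (Spec (CommRingCat.of k))} [GrpObj G]
  [LocallyOfFiniteType G.hom] [LocallyOfFiniteType X.hom] (a : AlgGrp.Action G X)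

/-- The affine case for an affine group. -/
theorem isFinite_psi_affine [IsAffine X.left] (hG : HasIntegral G) (hcl : GIT.IsClosedAction a)
    (hfin : FiniteStab a) : IsFinite (GIT.psi a (𝟙 X)).left := by
  obtain ⟨A, _, _, e, α, hα, hα1⟩ := hG
  let j : sp k A ≅ G := (Grp.forget _).mapIso e
  haveI : IsMonHom j.hom := e.hom.hom.isMonHom_hom
  haveI : IsMonHom j.inv := e.inv.hom.isMonHom_hom
  haveI : IsIso j.inv.left := ((Over.forget _).mapIso j).isIso_inv
  haveI : IsIso j.hom.left := ((Over.forget _).mapIso j).isIso_hom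
  haveI : LocallyOfFiniteType (sp k A).hom := by rw [← Over.w j.hom]; infer_instance
  haveI : Algebra.FiniteType k A :=
    RingHom.finiteType_algebraMap.mp ((HasRingHomProperty.Spec_iff (P := @LocallyOfFiniteType)).mp ‹_›)
  haveI : IsAffine G.left := IsAffine.of_isIso j.inv.left
  haveI : IsAffineHom (sp k A).hom := isAffineHom_of_isAffine _
  haveI : IsAffineHom G.hom := isAffineHom_of_isAffine _
  let a' : AlgGrp.Action (sp k A) X :=
    { act := (j.hom ▷ X) ≫ a.act
      one_act := by
        rw [← MonoidalCategory.comp_whiskerRight_assoc, IsMonHom.one_hom, a.one_act]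
      mul_act := by
        rw [← MonoidalCategory.comp_whiskerRight_assoc, IsMonHom.mul_hom, MonoidalCategory.comp_whiskerRight_assoc,
          a.mul_act, tensorHom_def', MonoidalCategory.comp_whiskerRight_assoc, associator_naturality_left_assoc,
          associator_naturality_middle_assoc, ← whisker_exchange_assoc, MonoidalCategory.whiskerLeft_comp_assoc] }
  have hψ : ∀ {T : Over (Spec (CommRingCat.of k))} (f : T ⟶ X),
      GIT.psi a' f = (j.hom ▷ T) ≫ GIT.psi a f := fun {T} f => by
    apply CartesianMonoidalCategory.hom_ext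
    · simp only [GIT.psi, lift_fst, Category.assoc, a']
      rw [whisker_exchange_assoc]
    · simp [GIT.psi]
  have hcl' : GIT.IsClosedAction a' := fun Ω _ _ T e' f => by
    haveI : IsIso (j.hom ▷ T).left := ((Over.forget _).mapIso (whiskerRightIso j T)).isIso_hom
    rw [hψ, Over.comp_left, Scheme.Hom.comp_base, TopCat.coe_comp, Set.range_comp,
      Set.range_eq_univ.2 (j.hom ▷ T).left.surjective, Set.image_univ]
    exact hcl Ω T e' f
  have hfin' : FiniteStab a' := fun Ω _ _ T e' f => by
    rw [GITQuot.Successive.isFinite_stabTo_iff a' e' f]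
    haveI := (GITQuot.Successive.isFinite_stabTo_iff a e' f).1 (hfin Ω T e' f)
    refine Finite.of_injective (fun g => (⟨g.1 ≫ j.hom, ?_⟩ : {g : T ⟶ G // lift g f ≫ a.act = f})) fun g h hgh =>
      Subtype.ext ((cancel_mono j.hom).1 (congrArg Subtype.val hgh))
    have h : lift g.1 f ≫ (j.hom ▷ X) ≫ a.act = f := g.2
    rwa [lift_whiskerRight_assoc] at h
  haveI := isFinite_psi_sp a' hα hα1 hcl' hfin'
  have e1 : GIT.psi a (𝟙 X) = (j.inv ▷ X) ≫ GIT.psi a' (𝟙 X) := by
    rw [hψ, ← MonoidalCategory.comp_whiskerRight_assoc, j.inv_hom_id, MonoidalCategory.id_whiskerRight, Category.id_comp]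
  haveI : IsIso (j.inv ▷ X).left := ((Over.forget _).mapIso (whiskerRightIso j.symm X)).isIso_hom
  rw [e1, Over.comp_left]
  infer_instance

/-- The globalisation. -/
theorem isFinite_psi (hG : HasIntegral G) {φ : X ⟶ Y} (hφ : GIT.IsInvariant a φ) [IsAffineHom φ.left]
    [IsSeparated Y.hom] (hcl : GIT.IsClosedAction a) (hfin : FiniteStab a) : IsFinite (GIT.psi a (𝟙 X)).left := by
  have hGaff : IsAffineHom G.hom := by
    obtain ⟨A, _, _, e, -⟩ := hG
    let j : sp k A ≅ G := (Grp.forget _).mapIso e
    haveI : IsIso j.inv.left := ((Over.forget _).mapIso j).isIso_inv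
    haveI : IsAffine G.left := IsAffine.of_isIso j.inv.left
    exact isAffineHom_of_isAffine _
  let ψ := (GIT.psi a (𝟙 X)).left
  have hfst : GIT.psi a (𝟙 X) ≫ fst X X ≫ φ = snd G X ≫ φ := by
    rw [GIT.psi, lift_fst_assoc, MonoidalCategory.whiskerLeft_id, Category.id_comp, hφ]
  refine IsZariskiLocalAtTarget.of_forall_exists_morphismRestrict (P := @IsFinite) fun z => ?_
  by_cases hz : φ.left.base ((fst X X).left.base z) = φ.left.base ((snd X X).left.base z)
  · obtain ⟨V, hV, hzV, -⟩ := exists_isAffineOpen_mem_and_subset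
      (show φ.left.base ((fst X X).left.base z) ∈ (⊤ : Y.left.Opens) from trivial)
    let U := φ.left ⁻¹ᵁ V
    haveI : IsAffine (opS U).left := hV.preimage φ.left
    haveI : LocallyOfFiniteType (opS U).hom := inferInstanceAs (LocallyOfFiniteType (U.ι ≫ X.hom))
    obtain ⟨aU, haU, -⟩ := GITQuot.exists_action hφ (isPullback_resS φ V)
    haveI : IsOpenImmersion (iS U).left := inferInstanceAs (IsOpenImmersion U.ι)
    have hclU : GIT.IsClosedAction aU :=
      isClosedAction_of_closedOrbitsOn (W := U) (fun Ω _ _ T e f _ => (hcl Ω T e f).preimage continuous_subtype_val)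
        (iS U) (Scheme.Opens.range_ι U) aU haU
    haveI := hGaff
    have hfinU : FiniteStab aU := fun Ω _ _ T e f => by
      rw [GITQuot.Successive.isFinite_stabTo_iff aU e f]
      haveI := (GITQuot.Successive.isFinite_stabTo_iff a e (f ≫ iS U)).1 (hfin Ω T e _)
      refine Finite.of_injective (fun g => (⟨g.1, ?_⟩ : {g : T ⟶ G // lift g (f ≫ iS U) ≫ a.act = f ≫ iS U}))
        fun g h hgh => Subtype.ext (congrArg (fun v => v.1) hgh)
      conv_rhs => rw [← g.2]
      rw [Category.assoc, haU, ← Category.assoc, lift_whiskerLeft]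
    haveI := isFinite_psi_affine aU hG hclU hfinU
    let j : opS U ⊗ opS U ⟶ X ⊗ X := iS U ⊗ₘ iS U
    haveI : IsOpenImmersion j.left := by
      simp only [j, Over.tensorHom_left]; infer_instance
    have hjr : Set.range j.left.base =
        (fst X X).left.base ⁻¹' (U : Set X.left) ∩ (snd X X).left.base ⁻¹' (U : Set X.left) := by
      simp only [j, Over.tensorHom_left]
      erw [Scheme.Pullback.range_map]
      simp [Scheme.Opens.range_ι]
    haveI : IsOpenImmersion (G ◁ iS U).left :=
      MorphismProperty.of_isPullback (P := @IsOpenImmersion)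
        (GITQuot.isPullback_left (GITQuot.isPullback_tensorLeft (G := G) (iS U))).flip ‹_›
    have hGr : Set.range (G ◁ iS U).left.base = (snd G X).left.base ⁻¹' (U : Set X.left) := by
      simp only [Over.whiskerLeft_left]
      erw [Scheme.Pullback.range_map]
      simp [Scheme.Opens.range_ι]
    have hpt : ∀ w, φ.left.base ((fst X X).left.base (ψ.base w)) = φ.left.base ((snd G X).left.base w) := fun w => by
      show ((GIT.psi a (𝟙 X)) ≫ fst X X ≫ φ).left.base w = (snd G X ≫ φ).left.base w
      rw [hfst]
    have hsnd : ∀ w, (snd X X).left.base (ψ.base w) = (snd G X).left.base w := fun w => by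
      show ((GIT.psi a (𝟙 X)) ≫ snd X X).left.base w = _
      rw [GIT.psi, lift_snd]
    have hsq : GIT.psi aU (𝟙 (opS U)) ≫ j = (G ◁ iS U) ≫ GIT.psi a (𝟙 X) := by
      apply CartesianMonoidalCategory.hom_ext
      · simp only [GIT.psi, j, Category.assoc, tensorHom_fst, lift_fst, lift_fst_assoc,
          MonoidalCategory.whiskerLeft_id, Category.id_comp]
        rw [← Category.assoc, lift_fst, haU]
      · simp [GIT.psi, j]
    have h2 : IsPullback (G ◁ iS U).left (GIT.psi aU (𝟙 (opS U))).left ψ j.left :=
      (IsOpenImmersion.isPullback (GIT.psi aU (𝟙 (opS U))).left (G ◁ iS U).left j.left ψ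
        (congrArg CommaMorphism.left hsq).symm (by
          refine Opens.ext ?_
          show ψ.base ⁻¹' Set.range j.left.base = Set.range (G ◁ iS U).left.base
          rw [hjr, hGr]
          ext w
          simp only [Set.mem_preimage, Set.mem_inter_iff, SetLike.mem_coe, U, hsnd]
          exact ⟨fun h => h.2, fun h => ⟨show φ.left.base _ ∈ V by rw [hpt]; exact h, h⟩⟩)).flip
    let O := j.left.opensRange
    refine ⟨O, ?_, ?_⟩
    · show z ∈ Set.range j.left.base
      rw [hjr]
      exact ⟨hzV, show φ.left.base _ ∈ V by rw [← hz]; exact hzV⟩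
    · have h1 := (isPullback_morphismRestrict ψ O).flip
      have hO : j.left.isoOpensRange.inv ≫ j.left = O.ι := Scheme.Hom.isoOpensRange_inv_comp _
      rw [← hO] at h1
      have h3 := IsPullback.of_right' h1 h2
      exact MorphismProperty.of_isPullback (P := @IsFinite) h3 inferInstance
  · let Δ : Y ⟶ Y ⊗ Y := lift (𝟙 Y) (𝟙 Y)
    haveI : IsClosedImmersion Δ.left := by
      haveI : IsClosedImmersion (Δ.left ≫ (fst Y Y).left) := by
        rw [← Over.comp_left, lift_fst]
        exact inferInstanceAs (IsClosedImmersion (𝟙 Y.left))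
      haveI : IsSeparated (fst Y Y).left := inferInstanceAs (IsSeparated (pullback.fst Y.hom Y.hom))
      exact IsClosedImmersion.of_comp Δ.left (fst Y Y).left
    let C : (X ⊗ X).left.Opens :=
      ⟨((φ ⊗ₘ φ).left.base ⁻¹' Set.range Δ.left.base)ᶜ,
        (Δ.left.isClosedEmbedding.isClosed_range.preimage (φ ⊗ₘ φ).left.continuous).isOpen_compl⟩
    refine ⟨C, ?_, ?_⟩
    · rintro ⟨y, hy⟩
      refine hz ?_
      show (fst X X ≫ φ).left.base z = (snd X X ≫ φ).left.base z
      rw [← tensorHom_fst φ φ, ← tensorHom_snd φ φ, Over.comp_left, Over.comp_left, Scheme.Hom.comp_apply,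
        Scheme.Hom.comp_apply, ← hy, ← Scheme.Hom.comp_apply, ← Scheme.Hom.comp_apply, ← Over.comp_left,
        ← Over.comp_left, lift_fst, lift_snd]
    · haveI : IsEmpty (ψ ⁻¹ᵁ C : Scheme.{u}) := by
        refine ⟨fun w => w.2 ⟨(snd G X ≫ φ).left.base w.1, ?_⟩⟩
        show ((snd G X ≫ φ) ≫ Δ).left.base w.1 = (GIT.psi a (𝟙 X) ≫ (φ ⊗ₘ φ)).left.base w.1
        have e : (snd G X ≫ φ) ≫ Δ = GIT.psi a (𝟙 X) ≫ (φ ⊗ₘ φ) := ?_
        · rw [e]
        apply CartesianMonoidalCategory.hom_ext
        · simp only [Δ, Category.assoc, lift_fst, Category.comp_id, tensorHom_fst]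
          exact hfst.symm
        · simp [Δ, GIT.psi]
      infer_instance

end Groth.Agent.GITProper
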