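import Groth.Agent.GITProper.QuasiFinite
import Groth.Agent.S19426
import Mathlib.AlgebraicGeometry.Artinian

/-!
# The locus of finite stabilisers
-/

set_option autoImplicit false
set_option backward.isDefEq.respectTransparency false
set_option backward.isDefEq.respectTransparency.types false
set_option linter.style.haveILetI false

universe u

open CategoryTheory Limits MonoidalCategory CartesianMonoidalCategory MonObj AlgebraicGeometry

noncomputable section

namespace Groth.Agent.GITProper

open EqIntLib

variable {S : Scheme.{u}} {G X : Over S} [GrpObj G] (a : AlgGrp.Action G X)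

/-- The stabiliser of a point is the pullback of the universal stabiliser. -/
theorem exists_isPullback_stab {T : Over S} (f : T ⟶ X) :
    ∃ h, IsPullback h (GLinSh.stabTo a f) (stabHom a) f.left := by
  have sq : IsPullback (G ◁ f) (GIT.psi a f) (GIT.psi a (𝟙 X)) (X ◁ f) := by
    refine IsPullback.of_bot ?_ ?_ (AlgSt.isPullback_whiskerLeft (G := X) f)
    · rw [GIT.psi, GIT.psi, lift_snd, lift_snd]
      exact AlgSt.isPullback_whiskerLeft f
    · ext <;> simp [GIT.psi]
  have sqA : IsPullback (pullback.fst (GIT.psi a f).left (lift f (𝟙 T)).left ≫ (G ◁ f).left)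
      (pullback.snd (GIT.psi a f).left (lift f (𝟙 T)).left) (GIT.psi a (𝟙 X)).left
      ((lift f (𝟙 T)).left ≫ (X ◁ f).left) :=
    (IsPullback.of_hasPullback _ _).paste_horiz (sq.map (Over.forget _))
  rw [show (lift f (𝟙 T)).left ≫ (X ◁ f).left = f.left ≫ (lift (𝟙 X) (𝟙 X)).left by
    rw [← Over.comp_left, ← Over.comp_left, lift_whiskerLeft, comp_lift, Category.id_comp, Category.comp_id]] at sqA
  exact ⟨_, IsPullback.of_right' sqA (IsPullback.of_hasPullback (GIT.psi a (𝟙 X)).left (lift (𝟙 X) (𝟙 X)).left)⟩

/-- The stabiliser over a point of the scheme has finitely many points. -/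
def FinPt (x : X.left) : Prop := ((stabHom a).base ⁻¹' {x}).Finite

theorem finPt_of_isFinite {Ω : Type u} [Field Ω] {T : Over S} (e : T.left ≅ Spec (CommRingCat.of Ω)) (f : T ⟶ X)
    {x : X.left} (hx : x ∈ Set.range f.left.base) (hf : IsFinite (GLinSh.stabTo a f)) : FinPt a x := by
  obtain ⟨h, hpb⟩ := exists_isPullback_stab a f
  haveI : Subsingleton T.left := e.hom.homeomorph.injective.subsingleton
  obtain ⟨t, rfl⟩ := hx
  have hfib : ((GLinSh.stabTo a f).base ⁻¹' {t}).Finite :=
    locallyQuasiFinite_iff_finite_preimage_singleton.1 (inferInstance : LocallyQuasiFinite (GLinSh.stabTo a f)) t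
  refine (hfib.image h.base).subset fun w hw => ?_
  obtain ⟨p, hp, -⟩ := Scheme.exists_preimage_of_isPullback hpb w t hw
  exact ⟨p, Subsingleton.elim (α := T.left) _ _, hp⟩

theorem isFinite_of_finPt [IsAffineHom (GIT.psi a (𝟙 X)).left] [LocallyOfFiniteType (GIT.psi a (𝟙 X)).left]
    {Ω : Type u} [Field Ω] {T : Over S} (e : T.left ≅ Spec (CommRingCat.of Ω)) (f : T ⟶ X)
    {W : X.left.Opens} (hW : ∀ x ∈ W, FinPt a x) (hf : Set.range f.left.base ⊆ (W : Set X.left)) :
    IsFinite (GLinSh.stabTo a f) := by
  let σ := stabHom a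
  haveI : LocallyOfFiniteType σ := inferInstanceAs (LocallyOfFiniteType (pullback.snd _ _))
  haveI : IsAffineHom σ := MorphismProperty.pullback_snd (P := @IsAffineHom) _ _ inferInstance
  haveI hq : LocallyQuasiFinite (σ ∣_ W) := by
    refine LocallyQuasiFinite.of_finite_preimage_singleton _ fun y => ?_
    refine Set.Finite.of_finite_image ((hW y.1 y.2).subset ?_) (σ ⁻¹ᵁ W).ι.isOpenEmbedding.injective.injOn
    rintro _ ⟨z, hz, rfl⟩
    show σ.base ((σ ⁻¹ᵁ W).ι.base z) = y.1
    rw [← Scheme.Hom.comp_apply, ← morphismRestrict_ι, Scheme.Hom.comp_apply, Set.mem_singleton_iff.1 hz]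
    rfl
  haveI : IsAffineHom (σ ∣_ W) := MorphismProperty.of_isPullback (isPullback_morphismRestrict σ W).flip ‹_›
  haveI : LocallyOfFiniteType (σ ∣_ W) := MorphismProperty.of_isPullback (isPullback_morphismRestrict σ W).flip ‹_›
  obtain ⟨h, hpb⟩ := exists_isPullback_stab a f
  let l := IsOpenImmersion.lift W.ι f.left (by rw [Scheme.Opens.range_ι]; exact hf)
  have hl : l ≫ W.ι = f.left := IsOpenImmersion.lift_fac _ _ _
  rw [← hl] at hpb
  have h3 := IsPullback.of_right' hpb (isPullback_morphismRestrict σ W).flip
  haveI : LocallyQuasiFinite (GLinSh.stabTo a f) := MorphismProperty.of_isPullback h3 hq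
  haveI : IsAffineHom (GLinSh.stabTo a f) := MorphismProperty.of_isPullback h3 ‹IsAffineHom (σ ∣_ W)›
  haveI : LocallyOfFiniteType (GLinSh.stabTo a f) := MorphismProperty.of_isPullback h3 ‹LocallyOfFiniteType (σ ∣_ W)›
  rw [← MorphismProperty.cancel_right_of_respectsIso (P := @IsFinite) (GLinSh.stabTo a f) e.hom]
  exact IsFinite.of_locallyQuasiFinite _

theorem isOpen_finPt {k : Type u} [Field k] [IsAlgClosed k] {G X : Over (Spec (CommRingCat.of k))} [GrpObj G]
    [IsAffine G.left] [LocallyOfFiniteType G.hom] [LocallyOfFiniteType X.hom] (a : AlgGrp.Action G X)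
    [IsAffineHom (GIT.psi a (𝟙 X)).left] : IsOpen {x : X.left | FinPt a x} := by
  haveI : LocallyOfFiniteType (GIT.psi a (𝟙 X)).left := by
    haveI : LocallyOfFiniteType ((GIT.psi a (𝟙 X)).left ≫ (snd X X).left) := by
      rw [← Over.comp_left, GIT.psi, lift_snd]
      exact inferInstanceAs (LocallyOfFiniteType (pullback.snd G.hom X.hom))
    exact locallyOfFiniteType_of_comp _ (snd X X).left
  have hcl := S19426.result k G X a 1
  rw [← isClosed_compl_iff]
  convert hcl using 1
  ext x
  rw [Set.mem_compl_iff, Set.mem_setOf_eq, Set.mem_setOf_eq]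
  let σ := stabHom a
  haveI : LocallyOfFiniteType σ := inferInstanceAs (LocallyOfFiniteType (pullback.snd _ _))
  haveI : IsAffineHom σ := MorphismProperty.pullback_snd (P := @IsAffineHom) _ _ inferInstance
  let F := σ.fiber x
  let p : F ⟶ Spec (X.left.residueField x) := σ.fiberToSpecResidueField x
  haveI : LocallyOfFiniteType p := inferInstanceAs (LocallyOfFiniteType (pullback.snd _ _))
  haveI : IsAffineHom p := MorphismProperty.pullback_snd (P := @IsAffineHom) _ _ inferInstance
  haveI : IsLocallyNoetherian F := LocallyOfFiniteType.isLocallyNoetherian p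
  haveI : JacobsonSpace F := LocallyOfFiniteType.jacobsonSpace p
  haveI : CompactSpace F := QuasiCompact.compactSpace_of_compactSpace p
  obtain ⟨h, hpb⟩ := exists_isPullback_stab a
    (Over.homMk (X.left.fromSpecResidueField x) rfl : Over.mk (X.left.fromSpecResidueField x ≫ X.hom) ⟶ X)
  rw [(Scheme.homeoOfIso hpb.isoPullback).isHomeomorph.topologicalKrullDim_eq,
    show FinPt a x ↔ Finite F from Set.finite_coe_iff.symm.trans (σ.fiberHomeo x).toEquiv.finite_iff.symm]
  show ¬ Finite F ↔ 1 ≤ topologicalKrullDim F
  constructor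
  · intro hF
    by_contra hd
    refine hF ?_
    haveI : IsLocallyArtinian F := IsLocallyArtinian.of_topologicalKrullDim_le_zero (by
      revert hd
      generalize topologicalKrullDim F = d
      intro hd
      induction d using WithBot.recBotCoe with
      | bot => exact bot_le
      | coe d =>
        have : d < 1 := by exact_mod_cast not_le.1 hd
        exact_mod_cast (ENat.lt_one_iff_eq_zero.1 this).le)
    exact finite_of_compact_of_discrete
  · intro hd hF
    haveI : DiscreteTopology F := inferInstance
    exact absurd (hd.trans (topologicalKrullDim_zero_of_discreteTopology F)) (by norm_num)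

end Groth.Agent.GITProper
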