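import Groth.Agent.GITProper.Global
import Groth.Agent.GITProper.StabLocus
import Groth.Agent.GITAff.Beta

/-!
# The properly stable locus
-/

set_option autoImplicit false
set_option backward.isDefEq.respectTransparency false
set_option backward.isDefEq.respectTransparency.types false
set_option linter.style.haveILetI false

universe u

open CategoryTheory Limits MonoidalCategory CartesianMonoidalCategory MonObj AlgebraicGeometry TopologicalSpace

noncomputable section

namespace Groth.Agent.GITProper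

open GITSS GrpSchLib GrpSchLib.AffineHopf

variable {k : Type u} [Field k]

theorem hasIntegral_of_isReductive [CharZero k] {G : Over (Spec (CommRingCat.of k))} [GrpObj G]
    (hG : Red.IsReductive G) : HasIntegral G := by
  haveI := GITAff.isAffine_of_isReductive hG
  obtain ⟨A, _, _, ⟨e⟩⟩ := exists_hopf G
  haveI := hG.2.1
  let j : sp k A ≅ G := (Grp.forget _).mapIso e
  haveI : IsIso j.hom.left := ((Over.forget _).mapIso j).isIso_hom
  have hlft : LocallyOfFiniteType (sp k A).hom := by rw [← Over.w j.hom]; infer_instance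
  haveI : Algebra.FiniteType k A :=
    RingHom.finiteType_algebraMap.mp ((HasRingHomProperty.Spec_iff (P := @LocallyOfFiniteType)).mp hlft)
  obtain ⟨α, hα, h1⟩ := ComodLib.exists_integral_of_isLinearlyReductive
    (RedLR.isLinearlyReductive_of_isReductive A (GITAff.isReductive_congr e.symm hG))
  exact ⟨A, _, _, e, α, hα, h1⟩

section Transfer

variable {S : Scheme.{u}} {G X Z : Over S} [GrpObj G] [IsAffineHom G.hom] [LocallyOfFiniteType G.hom]
  (a : AlgGrp.Action G X) (aZ : AlgGrp.Action G Z)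

theorem isFinite_stabTo_mono {j : Z ⟶ X} [Mono j] (h : aZ.act ≫ j = (G ◁ j) ≫ a.act) {Ω : Type u} [Field Ω]
    [IsAlgClosed Ω] {T : Over S} (e : T.left ≅ Spec (CommRingCat.of Ω)) (f : T ⟶ Z) :
    IsFinite (GLinSh.stabTo aZ f) ↔ IsFinite (GLinSh.stabTo a (f ≫ j)) := by
  rw [GITQuot.Successive.isFinite_stabTo_iff aZ e f, GITQuot.Successive.isFinite_stabTo_iff a e (f ≫ j)]
  refine (Equiv.subtypeEquivRight fun g => ?_).finite_iff
  rw [← cancel_mono j, Category.assoc, h, ← Category.assoc, lift_whiskerLeft]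

theorem isFinite_stabTo_translate {Ω : Type u} [Field Ω] [IsAlgClosed Ω] {T : Over S}
    (e : T.left ≅ Spec (CommRingCat.of Ω)) (g : T ⟶ G) (f : T ⟶ Z) (h : IsFinite (GLinSh.stabTo aZ f)) :
    IsFinite (GLinSh.stabTo aZ (lift g f ≫ aZ.act)) := by
  rw [GITQuot.Successive.isFinite_stabTo_iff aZ e] at h ⊢
  refine Finite.of_injective (fun s => (⟨g⁻¹ * s.1 * g, ?_⟩ : {s : T ⟶ G // lift s f ≫ aZ.act = f})) fun s t hst => ?_
  · rw [← GrpSchLib.act_mul, ← GrpSchLib.act_mul, s.2, GrpSchLib.act_mul, inv_mul_cancel, GrpSchLib.act_one]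
  · exact Subtype.ext (mul_left_cancel (mul_right_cancel (congrArg Subtype.val hst)))

end Transfer

/-- A geometric point over a point. -/
theorem exists_geomPt {S : Scheme.{u}} {X : Over S} (x : X.left) :
    ∃ (Ω : Type u) (_ : Field Ω) (_ : IsAlgClosed Ω) (T : Over S) (_ : T.left ≅ Spec (CommRingCat.of Ω)) (f : T ⟶ X),
      Set.range f.left.base = {x} := by
  let Ω := AlgebraicClosure (X.left.residueField x)
  let pt : Spec (CommRingCat.of Ω) ⟶ X.left :=
    Spec.map (CommRingCat.ofHom (algebraMap (X.left.residueField x) Ω)) ≫ X.left.fromSpecResidueField x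
  refine ⟨Ω, inferInstance, inferInstance, Over.mk (pt ≫ X.hom), Iso.refl _, Over.homMk pt rfl, ?_⟩
  refine Set.eq_singleton_iff_nonempty_unique_mem.2 ⟨⟨pt.base (IsLocalRing.closedPoint Ω), _, rfl⟩, ?_⟩
  rintro _ ⟨o, rfl⟩
  show pt.base o = x
  rw [Scheme.Hom.comp_apply]
  exact Scheme.fromSpecResidueField_apply x _

variable [IsAlgClosed k] [CharZero k]

theorem isProper_psi_psLocus {G X : Over (Spec (CommRingCat.of k))} [GrpObj G] (hG : Red.IsReductive G)
    [LocallyOfFiniteType X.hom] [QuasiCompact X.hom] {a : AlgGrp.Action G X} (B : GLinSh.LinBun G a) :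
    ∃ U : X.left.Opens, (U : Set X.left) = B.psLocus ∧
      ∀ (aP : AlgGrp.Action G (opS U)), aP.act ≫ iS U = (G ◁ iS U) ≫ a.act →
          IsProper (GIT.psi aP (𝟙 (opS U))).left := by
  haveI := GITAff.isAffine_of_isReductive hG
  haveI := hG.1
  haveI := hG.2.1
  -- the semistable and stable loci
  have hop : ∀ P : Set X.left, (∀ x ∈ P, ∃ D : X.left.Opens, x ∈ D ∧ ∀ y ∈ D, y ∈ P) → IsOpen P := fun P h =>
    isOpen_iff_forall_mem_open.2 fun x hx => by
      obtain ⟨D, hxD, hD⟩ := h x hx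
      exact ⟨D, hD, D.isOpen, hxD⟩
  let Uss : X.left.Opens := ⟨B.ssLocus, hop _ (by
    rintro x ⟨n, f, hn, hf, hxf, D, hD, hDa⟩
    exact ⟨D, hD.ge hxf, fun y hy => ⟨n, f, hn, hf, hD.le hy, D, hD, hDa⟩⟩)⟩
  let Us : X.left.Opens := ⟨B.sLocus, hop _ (by
    rintro x ⟨n, f, hn, hf, hxf, D, hD, hDa, hcl⟩
    exact ⟨D, hD.ge hxf, fun y hy => ⟨n, f, hn, hf, hD.le hy, D, hD, hDa, hcl⟩⟩)⟩
  have hle : Us ≤ Uss := by
    rintro x ⟨n, f, hn, hf, hxf, D, hD, hDa, -⟩
    exact ⟨n, f, hn, hf, hxf, D, hD, hDa⟩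
  have hUssI : ∀ q : (G ⊗ X).left, a.act.left.base q ∈ Uss ↔ (snd G X).left.base q ∈ Uss := by
    intro q
    constructor
    · rintro ⟨n, f, hn, hf, hxf, D, hD, hDa⟩
      exact ⟨n, f, hn, hf, (HMProj.mem_iff_of_invariant B hf.2 q).1 hxf, D, hD, hDa⟩
    · rintro ⟨n, f, hn, hf, hxf, D, hD, hDa⟩
      exact ⟨n, f, hn, hf, (HMProj.mem_iff_of_invariant B hf.2 q).2 hxf, D, hD, hDa⟩
  have hUsI : ∀ q : (G ⊗ X).left, a.act.left.base q ∈ Us ↔ (snd G X).left.base q ∈ Us := by
    intro q
    constructor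
    · rintro ⟨n, f, hn, hf, hxf, D, hD, hDa, hcl⟩
      exact ⟨n, f, hn, hf, (HMProj.mem_iff_of_invariant B hf.2 q).1 hxf, D, hD, hDa, hcl⟩
    · rintro ⟨n, f, hn, hf, hxf, D, hD, hDa, hcl⟩
      exact ⟨n, f, hn, hf, (HMProj.mem_iff_of_invariant B hf.2 q).2 hxf, D, hD, hDa, hcl⟩
  obtain ⟨aU, haU⟩ := exists_restrictG (a := a) hUssI
  obtain ⟨aS, haS⟩ := exists_restrictG (a := a) hUsI
  obtain ⟨Y, φ, hφ, hφa, -, hYs, -, -⟩ := exists_quot hG B (U := Uss) rfl aU haU
  haveI := hφa
  haveI := hYs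
  obtain ⟨Yt, φs, hfac, hYt, hgq, -⟩ := exists_geomQuot hG B (U := Uss) rfl aU haU φ hφ.1 (Us := Us) rfl hle aS haS
  let Z := opS Us
  have hpre : φ.left ⁻¹ᵁ Yt = (X.left.homOfLE hle).opensRange := by
    rw [hYt]
    refine Opens.ext (Set.ext fun x => ⟨fun hx => ⟨⟨x.1, hx⟩, Uss.ι.isOpenEmbedding.injective ?_⟩, ?_⟩)
    · show (X.left.homOfLE hle ≫ Uss.ι).base _ = _
      rw [X.left.homOfLE_ι]
      rfl
    · rintro ⟨y, rfl⟩
      show (X.left.homOfLE hle ≫ Uss.ι).base y ∈ Us
      rw [X.left.homOfLE_ι]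
      exact y.2
  haveI : IsAffineHom φs.left :=
    MorphismProperty.of_isPullback (P := @IsAffineHom)
      (IsOpenImmersion.isPullback φs.left (X.left.homOfLE hle) Yt.ι φ.left hfac.symm
        (by rw [Scheme.Opens.opensRange_ι, hpre])).flip hφa
  haveI : IsSeparated (opS Yt).hom := inferInstanceAs (IsSeparated (Yt.ι ≫ Y.hom))
  haveI : LocallyOfFiniteType Z.hom := inferInstanceAs (LocallyOfFiniteType (Us.ι ≫ X.hom))
  haveI : IsSeparated Z.hom := by rw [← Over.w φs]; infer_instance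
  haveI : IsAffineHom G.hom := hG.1
  haveI : IsAffineHom (GIT.psi aS (𝟙 Z)).left := by
    haveI : IsAffineHom ((GIT.psi aS (𝟙 Z)).left ≫ (snd Z Z).left) := by
      rw [← Over.comp_left, GIT.psi, lift_snd]
      exact MorphismProperty.pullback_snd (P := @IsAffineHom) G.hom Z.hom ‹_›
    haveI : IsSeparated (snd Z Z).left := inferInstanceAs (IsSeparated (pullback.snd Z.hom Z.hom))
    exact IsAffineHom.of_comp _ (snd Z Z).left
  haveI : LocallyOfFiniteType (GIT.psi aS (𝟙 Z)).left := by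
    haveI : LocallyOfFiniteType ((GIT.psi aS (𝟙 Z)).left ≫ (snd Z Z).left) := by
      rw [← Over.comp_left, GIT.psi, lift_snd]
      exact inferInstanceAs (LocallyOfFiniteType (pullback.snd G.hom Z.hom))
    exact locallyOfFiniteType_of_comp _ (snd Z Z).left
  haveI := mono_iS Us
  let W : Z.left.Opens := ⟨{z | FinPt aS z}, isOpen_finPt aS⟩
  have hW : ∀ z ∈ W, FinPt aS z := fun z hz => hz
  -- saturation
  let V : Set Yt.toScheme := φs.left.base '' (W : Set Z.left)
  have hsat : φs.left.base ⁻¹' V = (W : Set Z.left) := by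
    refine Set.Subset.antisymm ?_ (Set.subset_preimage_image _ _)
    rintro z ⟨w, hw, hwz⟩
    obtain ⟨q, hq₁, hq₂⟩ := Scheme.Pullback.exists_preimage_pullback (f := φs.left) (g := φs.left) z w hwz.symm
    obtain ⟨r, rfl⟩ := hgq.orbit q
    have hr₁ : aS.act.left.base r = z := by
      rw [← hq₁, ← Scheme.Hom.comp_apply, GIT.PsiY, pullback.lift_fst]
    have hr₂ : (snd G Z).left.base r = w := by
      rw [← hq₂, ← Scheme.Hom.comp_apply, GIT.PsiY, pullback.lift_snd]
    obtain ⟨Ω, _, _, T, e, u, hu⟩ := exists_geomPt r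
    have hmem : ∀ m : G ⊗ Z ⟶ Z, Set.range (u ≫ m).left.base = {m.left.base r} := fun m => by
      rw [Over.comp_left, Scheme.Hom.comp_base, TopCat.coe_comp, Set.range_comp, hu, Set.image_singleton]
    have hf := isFinite_of_finPt aS e (u ≫ snd G Z) hW (by
      rw [hmem, hr₂]
      exact Set.singleton_subset_iff.2 hw)
    have hf' := isFinite_stabTo_translate aS e (u ≫ fst G Z) (u ≫ snd G Z) hf
    rw [← comp_lift, lift_fst_snd, Category.comp_id] at hf'
    exact finPt_of_isFinite aS e (u ≫ aS.act) (x := z) (by rw [hmem, hr₁]; rfl) hf'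
  have hV : IsOpen V := by
    have hq : Topology.IsQuotientMap φs.left.base :=
      hgq.subm _ _ _ (IsPullback.of_id_fst (f := φs.left)).flip
    rw [← hq.isOpen_preimage, hsat]
    exact W.isOpen
  let U : X.left.Opens := Us.ι ''ᵁ W
  have hU : ∀ z : Z.left, z.1 ∈ U ↔ FinPt aS z := fun z =>
    ⟨fun ⟨w, hw, e⟩ => Us.ι.isOpenEmbedding.injective e ▸ hw, fun h => ⟨z, h, rfl⟩⟩
  have hUle : U ≤ Us := by
    rintro _ ⟨z, -, rfl⟩
    exact z.2
  refine ⟨U, ?_, fun aP haP => ?_⟩
  · ext x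
    constructor
    · intro hx
      refine ⟨hUle hx, fun Ω _ _ T e f hf => ?_⟩
      have hfs : Set.range f.left.base ⊆ Set.range Us.ι.base := by
        rw [hf, Scheme.Opens.range_ι]
        exact Set.singleton_subset_iff.2 (hUle hx)
      let f' : T ⟶ Z := Over.homMk (IsOpenImmersion.lift Us.ι f.left hfs) (by
        show _ ≫ Us.ι ≫ X.hom = _
        rw [IsOpenImmersion.lift_fac_assoc, Over.w f])
      have e' : f' ≫ iS Us = f := Over.OverMorphism.ext (IsOpenImmersion.lift_fac _ _ _)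
      rw [← e', ← isFinite_stabTo_mono a aS haS e f']
      refine isFinite_of_finPt aS e f' hW ?_
      rintro _ ⟨t, rfl⟩
      refine (hU _).1 ?_
      have : (f' ≫ iS Us).left.base t ∈ ({x} : Set X.left) := by rw [e', ← hf]; exact ⟨t, rfl⟩
      show (f' ≫ iS Us).left.base t ∈ U
      rw [Set.mem_singleton_iff.1 this]
      exact hx
    · rintro ⟨hs, hfin⟩
      refine (hU (⟨x, hs⟩ : Us)).2 ?_
      obtain ⟨Ω, _, _, T, e, f, hf⟩ := exists_geomPt (X := Z) (⟨x, hs⟩ : Us)
      refine finPt_of_isFinite aS e f (by rw [hf]; rfl) ?_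
      rw [isFinite_stabTo_mono a aS haS e f]
      refine hfin Ω T e _ ?_
      rw [Over.comp_left, Scheme.Hom.comp_base, TopCat.coe_comp, Set.range_comp, hf, Set.image_singleton]
      rfl
  · let Vo : (opS Yt).left.Opens := ⟨V, hV⟩
    let jE : opS U ⟶ Z := leS hUle
    have hjE : jE ≫ iS Us = iS U := leS_iS hUle
    haveI : IsOpenImmersion jE.left := inferInstanceAs (IsOpenImmersion (X.left.homOfLE hUle))
    have haPE : aP.act ≫ jE = (G ◁ jE) ≫ aS.act := by
      rw [← cancel_mono (iS Us), Category.assoc, hjE, haP, Category.assoc, haS, ← Category.assoc,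
        ← MonoidalCategory.whiskerLeft_comp, hjE]
    have hrange : Set.range jE.left.base = (W : Set Z.left) := by
      ext z
      constructor
      · rintro ⟨p, rfl⟩
        refine (hU _).1 ?_
        show (jE ≫ iS Us).left.base p ∈ U
        rw [hjE]
        exact p.2
      · intro hz
        refine ⟨⟨z.1, (hU z).2 hz⟩, Us.ι.isOpenEmbedding.injective ?_⟩
        show (jE ≫ iS Us).left.base _ = _
        rw [hjE]
        rfl
    let φE : opS U ⟶ opS Vo := Over.homMk (IsOpenImmersion.lift Vo.ι (jE.left ≫ φs.left) (by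
        erw [Scheme.Opens.range_ι]
        rintro _ ⟨p, rfl⟩
        exact ⟨jE.left.base p, hrange.le ⟨p, rfl⟩, rfl⟩)) (by
      show _ ≫ Vo.ι ≫ (opS Yt).hom = _
      rw [IsOpenImmersion.lift_fac_assoc, Category.assoc, Over.w φs, Over.w jE])
    have hφE : φE ≫ iS Vo = jE ≫ φs := Over.OverMorphism.ext (IsOpenImmersion.lift_fac _ _ _)
    haveI : IsAffineHom φE.left :=
      MorphismProperty.of_isPullback (P := @IsAffineHom)
        (IsOpenImmersion.isPullback φE.left jE.left Vo.ι φs.left (congrArg CommaMorphism.left hφE).symm (by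
          rw [Scheme.Opens.opensRange_ι]
          exact Opens.ext (hsat.trans hrange.symm))).flip ‹IsAffineHom φs.left›
    have hinv : GIT.IsInvariant aP φE := by
      haveI := mono_iS Vo
      show aP.act ≫ φE = snd G _ ≫ φE
      rw [← cancel_mono (iS Vo), Category.assoc, Category.assoc, hφE, ← Category.assoc, haPE, Category.assoc,
        hgq.inv, ← Category.assoc, whiskerLeft_snd, Category.assoc]
    haveI : IsSeparated (opS Vo).hom := inferInstanceAs (IsSeparated (Vo.ι ≫ (opS Yt).hom))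
    haveI : LocallyOfFiniteType (opS U).hom := inferInstanceAs (LocallyOfFiniteType (U.ι ≫ X.hom))
    haveI : Mono jE := by
      haveI := mono_iS U
      haveI : Mono (jE ≫ iS Us) := by rw [hjE]; infer_instance
      exact mono_of_mono jE (iS Us)
    have hclZ : GLinSh.ClosedOrbitsOn aS W := fun Ω _ _ T e f _ =>
      (GITQuot.isClosedAction hgq Ω T e f).preimage continuous_subtype_val
    haveI := isFinite_psi aP (hasIntegral_of_isReductive hG) hinv
      (isClosedAction_of_closedOrbitsOn hclZ jE hrange aP haPE) (fun Ω _ _ T e f => by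
        rw [isFinite_stabTo_mono aS aP haPE e f]
        refine isFinite_of_finPt aS e (f ≫ jE) hW ?_
        rintro _ ⟨t, rfl⟩
        exact hrange.le ⟨f.left.base t, rfl⟩)
    infer_instance

end Groth.Agent.GITProper
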