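import Groth.Agent.GITQuot.BaseChange
import Groth.Agent.S2102
import Groth.Agent.S9821

/-!
# A geometric quotient of a normal integral scheme is normal
-/

set_option autoImplicit false
set_option backward.isDefEq.respectTransparency false
set_option backward.isDefEq.respectTransparency.types false
set_option linter.style.haveILetI false

universe u

open CategoryTheory CategoryTheory.Limits MonoidalCategory CartesianMonoidalCategory MonObj AlgebraicGeometry TopologicalSpace

noncomputable section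

namespace Groth.Agent.GITProper

variable {S : Scheme.{u}} {G X Y : Over S} [GrpObj G] {a : AlgGrp.Action G X} {φ : X ⟶ Y}

theorem isReduced_quot (h : GIT.IsGeomQuot a φ) [IsReduced X.left] : IsReduced Y.left :=
  haveI : ∀ U : Y.left.Opens, _root_.IsReduced Γ(Y.left, U) := fun U =>
    isReduced_of_injective (φ.left.app U).hom (h.sections U).1
  ⟨this⟩

theorem isIntegral_quot (h : GIT.IsGeomQuot a φ) [IsIntegral X.left] : IsIntegral Y.left := by
  haveI := isReduced_quot h
  haveI : IrreducibleSpace Y.left := h.surj.irreducibleSpace φ.left.continuous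
  exact isIntegral_of_irreducibleSpace_of_isReduced _

theorem eq_zero_of_regular_mul [Flat G.hom] [IsAffineHom G.hom] [IsIntegral X.left] {W : X.left.Opens}
    {P : (G ⊗ X).left.Opens} (hP : P ≤ (snd G X).left ⁻¹ᵁ W) {b : Γ(X.left, W)} (hb : b ≠ 0)
    {d : Γ((G ⊗ X).left, P)} (hd : (snd G X).left.appLE W P hP b * d = 0) : d = 0 := by
  haveI hfl : Flat (snd G X).left := MorphismProperty.pullback_snd (P := @Flat) G.hom X.hom ‹_›
  haveI : IsAffineHom (snd G X).left := MorphismProperty.pullback_snd (P := @IsAffineHom) G.hom X.hom ‹_›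
  have hz : ∀ z : P, ∃ O : (G ⊗ X).left.Opens, z.1 ∈ O ∧ ∃ hOP : O ≤ P, (G ⊗ X).left.presheaf.map (homOfLE hOP).op d = 0 := by
    intro z
    obtain ⟨W₀, hW₀, hzW, hW₀W⟩ := exists_isAffineOpen_mem_and_subset (show (snd G X).left.base z.1 ∈ W from hP z.2)
    obtain ⟨O, hO, hzO, hOle⟩ := exists_isAffineOpen_mem_and_subset
      (show z.1 ∈ P ⊓ (snd G X).left ⁻¹ᵁ W₀ from ⟨z.2, hzW⟩)
    have hOP : O ≤ P := fun w hw => (hOle hw).1
    have hOW : O ≤ (snd G X).left ⁻¹ᵁ W₀ := fun w hw => (hOle hw).2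
    refine ⟨O, hzO, hOP, ?_⟩
    haveI : Nonempty W₀ := ⟨⟨_, hzW⟩⟩
    let b₀ := X.left.presheaf.map (homOfLE (show W₀ ≤ W from hW₀W)).op b
    have hb₀ : b₀ ≠ 0 := fun h => hb (map_injective_of_isIntegral _ _ (h.trans (map_zero _).symm))
    letI := ((snd G X).left.appLE W₀ O hOW).hom.toAlgebra
    haveI : Module.Flat Γ(X.left, W₀) Γ((G ⊗ X).left, O) := (snd G X).left.flat_appLE hW₀ hO hOW
    have hreg : IsSMulRegular Γ((G ⊗ X).left, O) (algebraMap Γ(X.left, W₀) Γ((G ⊗ X).left, O) b₀) :=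
      IsSMulRegular.of_flat (fun x y hxy => mul_left_cancel₀ hb₀ hxy)
    refine hreg ?_
    have e := congrArg ((G ⊗ X).left.presheaf.map (homOfLE hOP).op) hd
    rw [map_mul, map_zero] at e
    show algebraMap Γ(X.left, W₀) Γ((G ⊗ X).left, O) b₀ • _ = algebraMap Γ(X.left, W₀) Γ((G ⊗ X).left, O) b₀ • 0
    rw [smul_zero, smul_eq_mul]
    refine Eq.trans (congrArg (· * _) ?_) e
    show (X.left.presheaf.map (homOfLE (show W₀ ≤ W from hW₀W)).op ≫ (snd G X).left.appLE W₀ O hOW) b =
      ((snd G X).left.appLE W P hP ≫ (G ⊗ X).left.presheaf.map (homOfLE hOP).op) b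
    rw [Scheme.Hom.map_appLE, Scheme.Hom.appLE_map]
  choose O hzO hOP hO0 using hz
  refine (G ⊗ X).left.sheaf.eq_of_locally_eq' O P (fun z => homOfLE (hOP z))
    (fun z hz => Opens.mem_iSup.2 ⟨⟨z, hz⟩, hzO ⟨z, hz⟩⟩) d 0 fun z => ?_
  rw [map_zero]
  exact hO0 z

theorem isIntegrallyClosed_of_injective {R D : Type u} [CommRing R] [CommRing D] [IsDomain R] [IsDomain D]
    [IsIntegrallyClosed D] (f : R →+* D) (hf : Function.Injective f)
    (hdesc : ∀ (c : D) (n m : R), m ≠ 0 → c * f m = f n → ∃ r, f r = c) : IsIntegrallyClosed R := by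
  let j : FractionRing R →+* FractionRing D :=
    IsFractionRing.lift (g := (algebraMap D (FractionRing D)).comp f) ((IsFractionRing.injective D _).comp hf)
  have e : ∀ r, j (algebraMap R (FractionRing R) r) = algebraMap D (FractionRing D) (f r) := fun r =>
    IsFractionRing.lift_algebraMap _ r
  rw [isIntegrallyClosed_iff (FractionRing R)]
  intro q hq
  have hjq : IsIntegral D (j q) := by
    obtain ⟨p, hp, hp'⟩ := hq
    refine ⟨p.map f, hp.map _, ?_⟩
    rw [Polynomial.eval₂_map, show (algebraMap D (FractionRing D)).comp f = j.comp (algebraMap R (FractionRing R))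
      from RingHom.ext fun r => (e r).symm, ← Polynomial.hom_eval₂, hp', map_zero]
  obtain ⟨c, hc⟩ := IsIntegrallyClosed.isIntegral_iff.1 hjq
  obtain ⟨⟨n, m⟩, hnm⟩ := IsLocalization.surj (nonZeroDivisors R) q
  have hcm : c * f m.1 = f n := IsFractionRing.injective D (FractionRing D) (by
    rw [map_mul, hc, ← e, ← e, ← map_mul, hnm])
  obtain ⟨r, hr⟩ := hdesc c n m.1 (nonZeroDivisors.ne_zero m.2) hcm
  refine ⟨r, ?_⟩
  apply RingHom.injective j
  rw [e, hr, hc]

theorem sections_normal (h : GIT.IsGeomQuot a φ) [Flat G.hom] [IsAffineHom G.hom] [IsIntegral X.left]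
    (hX : Pi1.IsNormalScheme X.left) (V : Y.left.Opens) [Nonempty V] : IsIntegrallyClosed Γ(Y.left, V) := by
  haveI := isIntegral_quot h
  let W := φ.left ⁻¹ᵁ V
  obtain ⟨⟨y, hy⟩⟩ := ‹Nonempty V›
  obtain ⟨x, rfl⟩ := h.surj y
  haveI : Nonempty W := ⟨⟨x, hy⟩⟩
  haveI : IsIntegral W.toScheme := isIntegral_of_isOpenImmersion W.ι
  haveI : IsIntegrallyClosed Γ(X.left, W) := by
    haveI := S2102.result W.toScheme fun z => by
      obtain ⟨h1, h2⟩ := hX z.1
      exact ⟨inferInstance, IsIntegrallyClosed.of_equiv (W.stalkIso z).commRingCatIsoToRingEquiv.symm⟩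
    exact IsIntegrallyClosed.of_equiv W.topIso.commRingCatIsoToRingEquiv
  refine isIntegrallyClosed_of_injective (φ.left.app V).hom (h.sections V).1 fun c n m hm hcm => ?_
  have hm' : (φ.left.app V).hom m ≠ 0 := fun h0 => hm ((h.sections V).1 (h0.trans (map_zero _).symm))
  have hinvs : ∀ r, GIT.IsInvSection a φ V ((φ.left.app V).hom r) := fun r => (h.sections V).2.le ⟨r, rfl⟩
  have hcinv : GIT.IsInvSection a φ V c := by
    refine sub_eq_zero.1 (eq_zero_of_regular_mul
      (P := a.act.left ⁻¹ᵁ (φ.left ⁻¹ᵁ V) ⊓ (snd G X).left ⁻¹ᵁ (φ.left ⁻¹ᵁ V)) inf_le_right hm' ?_)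
    have h1 : GIT.IsInvSection a φ V ((φ.left.app V).hom m) := hinvs m
    have h2 : GIT.IsInvSection a φ V (c * (φ.left.app V).hom m) := hcm ▸ hinvs n
    unfold GIT.IsInvSection at h1 h2
    rw [map_mul, map_mul, h1] at h2
    rw [mul_sub, sub_eq_zero]
    linear_combination h2
  exact (h.sections V).2.ge hcinv

theorem isNormalScheme_quot (h : GIT.IsGeomQuot a φ) [Flat G.hom] [IsAffineHom G.hom] [IsIntegral X.left]
    (hX : Pi1.IsNormalScheme X.left) : Pi1.IsNormalScheme Y.left := by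
  haveI := isIntegral_quot h
  exact (S9821.result Y.left).2 fun V _ _ => sections_normal h hX V

end Groth.Agent.GITProper
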